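import Groth.Agent.H83.RPBW.Lead
import Groth.Agent.H83.PLieRestrict

/-! The enveloping algebra of a free restrictable Lie algebra is free over the polynomial ring
in the central elements `b_i ^ p - y_i`, with basis the truncated monomials. -/

set_option autoImplicit false
set_option linter.unusedSectionVars false
universe u v w

namespace Groth.Agent.H83.RPBW

open Groth.Agent.H83.PBWRing Multiset

attribute [local instance] LieRing.ofAssociativeRing

section Rep

variable {ι : Type w} [DecidableEq ι] [Fintype ι]

/-- the multiset with prescribed multiplicities -/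
def rep (n : ι → ℕ) : Multiset ι := ∑ i, Multiset.replicate (n i) i

theorem count_rep (n : ι → ℕ) (j : ι) : count j (rep n) = n j := by
  unfold rep
  rw [Multiset.count_sum']
  simp only [Multiset.count_replicate]
  rw [Finset.sum_ite_eq' Finset.univ j]
  simp

theorem rep_add (m n : ι → ℕ) : rep (m + n) = rep m + rep n := by
  ext j
  rw [count_add, count_rep, count_rep, count_rep]
  rfl

theorem rep_count (s : Multiset ι) : rep (fun i => count i s) = s := by
  ext j
  rw [count_rep]

theorem card_rep (n : ι → ℕ) : card (rep n) = ∑ i, n i := by
  unfold rep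
  rw [Multiset.card_sum]
  simp

theorem rep_zero : rep (0 : ι → ℕ) = 0 := by
  ext j
  rw [count_rep]
  simp

theorem rep_single (i : ι) (m : ℕ) : rep (Pi.single i m) = Multiset.replicate m i := by
  ext j
  rw [count_rep, count_replicate, Pi.single_apply]
  by_cases h : i = j
  · subst h; simp
  · rw [if_neg h, if_neg (Ne.symm h)]

end Rep

section Main

variable (k : Type u) [CommRing k] (p : ℕ) [hp : Fact p.Prime] [CharP k p]
  {L : Type v} [LieRing L] [LieAlgebra k L] {ι : Type w} [LinearOrder ι] [Fintype ι]
  (b : Module.Basis ι k L) (y : ι → L)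
  (hy : ∀ i : ι, LieAlgebra.ad k L (b i) ^ p = LieAlgebra.ad k L (y i))

local notation "U" => UniversalEnvelopingAlgebra k L
local notation "ιU" => UniversalEnvelopingAlgebra.ι k

include hy in
theorem zetaGen_mem_center (i : ι) : zetaGen k p b y i ∈ Subalgebra.center k U := by
  rw [Subalgebra.mem_center_iff]
  intro u
  have hu : u ∈ Algebra.adjoin k (Set.range (ιU : L → U)) := by
    rw [adjoin_range_ι]
    trivial
  induction hu using Algebra.adjoin_induction with
  | mem u hu =>
    obtain ⟨w, rfl⟩ := hu
    exact (zetaGen_comm k p b y hy i w).symm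
  | algebraMap c => exact Algebra.commutes c _
  | add u u' _ _ h1 h2 => rw [add_mul, mul_add, h1, h2]
  | mul u u' _ _ h1 h2 => rw [mul_assoc, h2, ← mul_assoc, h1, mul_assoc]

/-- the central elements, as elements of the centre -/
noncomputable def zc (i : ι) : Subalgebra.center k U := ⟨zetaGen k p b y i, zetaGen_mem_center k p b y hy i⟩

/-- monomials in the central elements -/
noncomputable def Zq (q : ι → ℕ) : U := ((∏ i, zc k p b y hy i ^ q i : Subalgebra.center k U) : U)

theorem Zq_zero : Zq k p b y hy 0 = 1 := by
  simp [Zq]

theorem zeta_mul_Zq (i : ι) (q : ι → ℕ) :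
    zetaGen k p b y i * Zq k p b y hy q = Zq k p b y hy (q + Pi.single i 1) := by
  unfold Zq
  have h1 : (∏ j, zc k p b y hy j ^ (q + Pi.single i 1 : ι → ℕ) j : Subalgebra.center k U) =
      zc k p b y hy i * ∏ j, zc k p b y hy j ^ q j := by
    have h2 : ∀ j, zc k p b y hy j ^ (q + Pi.single i 1 : ι → ℕ) j =
        (if j = i then zc k p b y hy i else 1) * zc k p b y hy j ^ q j := by
      intro j
      rw [Pi.add_apply, Pi.single_apply, pow_add, mul_comm]
      by_cases h : j = i
      · subst h
        rw [if_pos rfl, if_pos rfl, pow_one]
      · rw [if_neg h, if_neg h, pow_zero]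
    simp_rw [h2]
    rw [Finset.prod_mul_distrib, Finset.prod_ite_eq' Finset.univ i]
    simp
  rw [h1]
  rfl

include hp in
theorem lead_zeta (i : ι) : Lead b (zetaGen k p b y i) (Multiset.replicate p i) := by
  have h1 : P b (List.replicate p i) = ιU (b i) ^ p := by
    simp [P]
  have h2 := lead_P b (List.replicate p i)
  rw [h1, Multiset.coe_replicate] at h2
  unfold zetaGen
  apply Lead.sub_mem b h2
  rw [Multiset.card_replicate]
  exact Flt_mono b hp.out.two_le (ι_mem_Flt b (y i))

include hp in
theorem lead_Zq (q : ι → ℕ) : Lead b (Zq k p b y hy q) (rep (fun i => q i * p)) := by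
  have key : ∀ t : Finset ι, Lead b
      ((∏ i ∈ t, zc k p b y hy i ^ q i : Subalgebra.center k U) : U)
      (∑ i ∈ t, Multiset.replicate (q i * p) i) := by
    intro t
    induction t using Finset.induction_on with
    | empty =>
      simp only [Finset.prod_empty, Finset.sum_empty]
      exact lead_one b
    | insert a t ha ih =>
      rw [Finset.prod_insert ha, Finset.sum_insert ha]
      have h1 : Lead b ((zc k p b y hy a ^ q a : Subalgebra.center k U) : U)
          (Multiset.replicate (q a * p) a) := by
        have := Lead.pow b (lead_zeta k p b y a) (q a)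
        rw [Multiset.nsmul_replicate] at this
        exact this
      exact Lead.mul b h1 ih
  exact key Finset.univ

/-- the new basis: central monomial times truncated monomial -/
noncomputable def N (s : Multiset ι) : U :=
  Zq k p b y hy (fun i => count i s / p) * M b (rep fun i => count i s % p)

include hp in
theorem lead_N (s : Multiset ι) : Lead b (N k p b y hy s) s := by
  have h1 := Lead.mul b (lead_Zq k p b y hy (fun i => count i s / p))
    (lead_M b (rep fun i => count i s % p))
  have h2 : rep (fun i => count i s / p * p) + rep (fun i => count i s % p) = s := by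
    rw [← rep_add]
    conv_rhs => rw [← rep_count s]
    congr 1
    funext i
    exact Nat.div_add_mod' _ _
  rw [h2] at h1
  exact h1

/-- the comparison map attached to the new basis -/
noncomputable def Psi : S k ι →ₗ[k] U := Finsupp.linearCombination k (N k p b y hy)

theorem Psi_e (s : Multiset ι) : Psi k p b y hy (e k s) = N k p b y hy s := by
  simp [Psi, e]

include hp in
theorem Psi_bijective : Function.Bijective (Psi k p b y hy) := by
  have h1 : Function.Bijective ((phiEquiv b).symm.toLinearMap ∘ₗ Psi k p b y hy) := by
    apply triangular_bijective (Multiset.card : Multiset ι → ℕ)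
    intro s
    have h2 := lead_N k p b y hy s
    obtain ⟨w, hw, hw2⟩ := h2
    have h3 : ((phiEquiv b).symm.toLinearMap ∘ₗ Psi k p b y hy) (Finsupp.single s 1) -
        Finsupp.single s 1 = w := by
      change (phiEquiv b).symm (Psi k p b y hy (e k s)) - e k s = w
      rw [Psi_e]
      apply (phiEquiv b).injective
      rw [_root_.map_sub, LinearEquiv.apply_symm_apply]
      change _ - phi b (e k s) = phi b w
      rw [phi_e, hw2]
    rw [h3]
    exact hw
  have h4 : Function.Bijective (phiEquiv b) := (phiEquiv b).bijective
  have h5 : (Psi k p b y hy : S k ι → U) =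
      (phiEquiv b) ∘ ((phiEquiv b).symm.toLinearMap ∘ₗ Psi k p b y hy) := by
    funext v
    simp
  rw [h5]
  exact h4.comp h1

end Main

end Groth.Agent.H83.RPBW
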