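import Groth.Agent.H83.RPBW.HopfH

/-! The truncated monomials form a basis of the restricted enveloping algebra; the
comultiplication on monomials. -/

set_option autoImplicit false
set_option linter.unusedSectionVars false
universe u v w

namespace Groth.Agent.H83.RPBW

open TensorProduct Groth.Agent.H83.PBWRing Multiset

attribute [local instance] LieRing.ofAssociativeRing

section Basis

variable (k : Type u) [CommRing k] (p : ℕ) [hp : Fact p.Prime] [CharP k p]
  {L : Type v} [LieRing L] [LieAlgebra k L] {ι : Type w} [LinearOrder ι] [Fintype ι]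
  (b : Module.Basis ι k L) (φ : PLie.PMap k p L)

local notation "U" => UniversalEnvelopingAlgebra k L
local notation "ιU" => UniversalEnvelopingAlgebra.ι k
local notation "H" => Ures k p b φ

/-- the image of an ordered monomial in the restricted enveloping algebra -/
noncomputable def Mbar (s : Multiset ι) : H := Ideal.Quotient.mk (JR k p b φ) (M b s)

theorem Mbar_zero : Mbar k p b φ 0 = 1 := by
  unfold Mbar
  rw [M_zero, map_one]

theorem Mbar_cons {i : ι} {s : Multiset ι} (h : LB i s) :
    Mbar k p b φ (i ::ₘ s) = ιres k p b φ (b i) * Mbar k p b φ s := by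
  unfold Mbar
  rw [M_cons b h, _root_.map_mul]
  rfl

theorem Mbar_singleton (i : ι) : Mbar k p b φ {i} = ιres k p b φ (b i) := by
  have := Mbar_cons k p b φ (i := i) (s := 0) (fun j hj => absurd hj (Multiset.notMem_zero j))
  rw [Mbar_zero, mul_one] at this
  exact this

/-- the index type of the truncated monomials -/
abbrev Tr (p : ℕ) (ι : Type w) [LinearOrder ι] : Type w := {s : Multiset ι // IsTrunc p s}

theorem linearIndependent_Mbar :
    LinearIndependent k (fun r : Tr p ι => Mbar k p b φ r.1) := by
  classical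
  rw [linearIndependent_iff]
  intro l hl
  -- transport the combination to the symmetric module
  obtain ⟨l', hl'⟩ : ∃ l' : S k ι, l' = Finsupp.mapDomain Subtype.val l := ⟨_, rfl⟩
  have hsupp : l' ∈ Finsupp.supported k k {s : Multiset ι | IsTrunc p s} := by
    rw [Finsupp.mem_supported]
    intro s hs
    rw [hl'] at hs
    have := Finsupp.mapDomain_support hs
    rw [Finset.mem_image] at this
    obtain ⟨r, _, rfl⟩ := this
    exact r.2
  have hy := hy_of_pmap k p b φ
  have hPsi : Ideal.Quotient.mk (JR k p b φ) (Psi k p b _ hy l') =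
      Finsupp.linearCombination k (fun r : Tr p ι => Mbar k p b φ r.1) l := by
    rw [hl', Finsupp.mapDomain, Finsupp.linearCombination_apply, Finsupp.sum, Finsupp.sum,
      _root_.map_sum, _root_.map_sum]
    apply Finset.sum_congr rfl
    intro r _
    have h1 : Psi k p b _ hy (Finsupp.single r.1 (l r)) = l r • N k p b _ hy r.1 := by
      have : (Finsupp.single r.1 (l r) : S k ι) = l r • e k r.1 := by
        simp [e]
      rw [this, _root_.map_smul, Psi_e]
    rw [h1, N_of_trunc k p b _ hy r.1 r.2]
    rfl
  rw [← hPsi, Ideal.Quotient.eq_zero_iff_mem] at hl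
  have hl2 : Psi k p b _ hy l' ∈ K k p b _ hy := (mem_J_iff k p b _ hy _).1 hl
  obtain ⟨w, hw, hw2⟩ := hl2
  have h3 : w = l' := (Psi_bijective k p b _ hy).1 hw2
  have h4 : l' = 0 := by
    ext s
    by_contra hne
    have hs : s ∈ l'.support := Finsupp.mem_support_iff.2 hne
    have h5 := hsupp hs
    rw [← h3] at hs
    exact hw hs h5
  rw [hl'] at h4
  exact (Finsupp.mapDomain_injective Subtype.val_injective) (h4.trans Finsupp.mapDomain_zero.symm)

theorem span_Mbar : Submodule.span k (Set.range fun r : Tr p ι => Mbar k p b φ r.1) = ⊤ := by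
  rw [eq_top_iff]
  intro a _
  obtain ⟨u, rfl⟩ := Ideal.Quotient.mk_surjective a
  obtain ⟨t, ht, hut⟩ := exists_trunc_sub_mem_J k p b _ (hy_of_pmap k p b φ) u
  have h1 : Ideal.Quotient.mk (JR k p b φ) u = Ideal.Quotient.mk (JR k p b φ) t := by
    rw [← sub_eq_zero, ← _root_.map_sub, Ideal.Quotient.eq_zero_iff_mem]
    exact hut
  rw [h1]
  have hle : Submodule.span k ((fun s => M b s) '' {s : Multiset ι | IsTrunc p s}) ≤
      (Submodule.span k (Set.range fun r : Tr p ι => Mbar k p b φ r.1)).comap
        (Ideal.Quotient.mkₐ k (JR k p b φ)).toLinearMap := by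
    rw [Submodule.span_le]
    rintro _ ⟨s, hs, rfl⟩
    rw [SetLike.mem_coe, Submodule.mem_comap]
    exact Submodule.subset_span ⟨⟨s, hs⟩, rfl⟩
  exact hle ht

/-- the basis of truncated monomials -/
noncomputable def basisH : Module.Basis (Tr p ι) k H :=
  Module.Basis.mk (linearIndependent_Mbar k p b φ) (span_Mbar k p b φ).ge

theorem basisH_apply (r : Tr p ι) : basisH k p b φ r = Mbar k p b φ r.1 := by
  rw [basisH, Module.Basis.mk_apply]

end Basis

section Comul

variable (k : Type u) [CommRing k] (p : ℕ) [hp : Fact p.Prime] [CharP k p]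
  {L : Type v} [LieRing L] [LieAlgebra k L] {ι : Type w} [LinearOrder ι] [Fintype ι]
  (b : Module.Basis ι k L) (φ : PLie.PMap k p L)

local notation "H" => Ures k p b φ

theorem cons_sub_of_le' (i : ι) {s t : Multiset ι} (h : t ≤ s) : i ::ₘ s - t = i ::ₘ (s - t) := by
  ext j
  have := Multiset.le_iff_count.1 h j
  rw [count_sub, count_cons, count_cons, count_sub]
  omega

theorem cons_sub_cons' (i : ι) (s t : Multiset ι) : i ::ₘ s - i ::ₘ t = s - t := by
  ext j
  rw [count_sub, count_cons, count_cons, count_sub]
  omega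

theorem LB_of_le {i : ι} {s t : Multiset ι} (h : LB i s) (hts : t ≤ s) : LB i t :=
  fun j hj => h j (Multiset.mem_of_le hts hj)

/-- the comultiplication on the ordered monomials -/
theorem comul_Mbar : ∀ (n : ℕ) (s : Multiset ι), card s = n →
    Coalgebra.comul (R := k) (Mbar k p b φ s) =
      ((powerset s).map fun t => Mbar k p b φ t ⊗ₜ[k] Mbar k p b φ (s - t)).sum := by
  intro n
  induction n with
  | zero =>
    intro s hs
    rw [card_eq_zero] at hs
    subst hs
    rw [powerset_zero, Multiset.map_singleton, Multiset.sum_singleton, tsub_zero, Mbar_zero,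
      Bialgebra.comul_one, Algebra.TensorProduct.one_def]
  | succ n ih =>
    intro s hs
    have hs0 : s ≠ 0 := by
      intro h
      rw [h, card_zero] at hs
      omega
    obtain ⟨i, hi⟩ : ∃ i, i = minOf s hs0 := ⟨_, rfl⟩
    obtain ⟨s', hs'⟩ : ∃ s', s' = s.erase i := ⟨_, rfl⟩
    have hcons : s = i ::ₘ s' := by
      rw [hs', hi]
      exact (cons_erase_minOf s hs0).symm
    have hLB : LB i s' := by
      rw [hs', hi]
      exact minOf_LB_erase s hs0
    have hcard : card s' = n := by
      rw [hcons, card_cons] at hs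
      omega
    rw [hcons, Mbar_cons k p b φ hLB, Bialgebra.comul_mul, comul_ιres, ih s' hcard,
      ← Multiset.sum_map_mul_left, powerset_cons, Multiset.map_add, Multiset.sum_add,
      Multiset.map_map]
    have h1 : ∀ t ∈ powerset s', (ιres k p b φ (b i) ⊗ₜ[k] (1 : H) +
        (1 : H) ⊗ₜ[k] ιres k p b φ (b i)) * (Mbar k p b φ t ⊗ₜ[k] Mbar k p b φ (s' - t)) =
        Mbar k p b φ t ⊗ₜ[k] Mbar k p b φ (i ::ₘ s' - t) +
          ((fun t => Mbar k p b φ t ⊗ₜ[k] Mbar k p b φ (i ::ₘ s' - t)) ∘ cons i) t := by
      intro t ht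
      rw [mem_powerset] at ht
      rw [Function.comp_apply, cons_sub_cons', cons_sub_of_le' i ht,
        Mbar_cons k p b φ (LB_of_le hLB ht),
        Mbar_cons k p b φ (LB_of_le hLB (Multiset.sub_le_self s' t)), add_mul,
        Algebra.TensorProduct.tmul_mul_tmul, Algebra.TensorProduct.tmul_mul_tmul, one_mul,
        one_mul, add_comm]
    rw [Multiset.map_congr rfl h1, Multiset.sum_map_add]

end Comul

end Groth.Agent.H83.RPBW
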