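import Mathlib
import Groth.Prelude.Def_CartDual
import Groth.Agent.H83.FinDual

/-! Right translations on the dual of a finite cocommutative Hopf algebra over a field:
primitive elements give left-invariant derivations of the dual, and conversely. -/

set_option autoImplicit false
set_option linter.unusedSectionVars false
universe u v

namespace Groth.Agent.H83.DualDer

open TensorProduct WithConv Coalgebra

section Trans

variable {k : Type u} [Field k] {H : Type v} [Ring H] [HopfAlgebra k H] [Module.Finite k H]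

local notation "DA" => CartDual.D k H

/-- right translation on the dual: the transpose of right multiplication -/
noncomputable def Rt (h : H) : DA →ₗ[k] DA :=
  (CartDual.toDual k H).symm.toLinearMap ∘ₗ (LinearMap.mulRight k h).dualMap ∘ₗ
    (CartDual.toDual k H).toLinearMap

theorem Rt_apply (h : H) (f : DA) (a : H) : Rt h f a = f (a * h) := rfl

theorem Rt_mul (h h' : H) : Rt (k := k) (h * h') = Rt h ∘ₗ Rt h' := by
  apply LinearMap.ext; intro f
  apply WithConv.ext; apply LinearMap.ext; intro a
  show (Rt (h * h') f) a = (Rt h (Rt h' f)) a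
  rw [Rt_apply, Rt_apply, Rt_apply, mul_assoc]

theorem Rt_one : Rt (k := k) (1 : H) = LinearMap.id := by
  apply LinearMap.ext; intro f
  apply WithConv.ext; apply LinearMap.ext; intro a
  show (Rt 1 f) a = f a
  rw [Rt_apply, mul_one]

theorem Rt_add (h h' : H) : Rt (k := k) (h + h') = Rt h + Rt h' := by
  apply LinearMap.ext; intro f
  apply WithConv.ext; apply LinearMap.ext; intro a
  show (Rt (h + h') f) a = (Rt h f) a + (Rt h' f) a
  rw [Rt_apply, Rt_apply, Rt_apply, mul_add, CartDual.coe_apply, map_add]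

theorem Rt_smul (c : k) (h : H) : Rt (k := k) (c • h) = c • Rt h := by
  apply LinearMap.ext; intro f
  apply WithConv.ext; apply LinearMap.ext; intro a
  show (Rt (c • h) f) a = c • (Rt h f) a
  rw [Rt_apply, Rt_apply, mul_smul_comm, CartDual.coe_apply, map_smul]

theorem Rt_sub (h h' : H) : Rt (k := k) (h - h') = Rt h - Rt h' := by
  apply LinearMap.ext; intro f
  apply WithConv.ext; apply LinearMap.ext; intro a
  show (Rt (h - h') f) a = (Rt h f) a - (Rt h' f) a
  rw [Rt_apply, Rt_apply, Rt_apply, mul_sub, CartDual.coe_apply, map_sub]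

theorem Rt_pow (h : H) (n : ℕ) : Rt (k := k) (h ^ n) = Rt h ^ n := by
  induction n with
  | zero => rw [pow_zero, pow_zero, Rt_one]; rfl
  | succ n ih => rw [pow_succ, pow_succ, Rt_mul, ih]; rfl

theorem Rt_injective : Function.Injective (Rt (k := k) (H := H)) := by
  intro h h' hh
  by_contra hne
  have hne' : h - h' ≠ 0 := sub_ne_zero.2 hne
  obtain ⟨f, hf⟩ : ∃ f : Module.Dual k H, f (h - h') ≠ 0 := by
    by_contra hcon
    push Not at hcon
    exact hne' ((Module.forall_dual_apply_eq_zero_iff k (h - h')).1 hcon)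
  have h1 : (Rt h (toConv f)) 1 = (Rt h' (toConv f)) 1 := by rw [hh]
  rw [Rt_apply, Rt_apply, one_mul, one_mul] at h1
  apply hf
  rw [map_sub]
  exact sub_eq_zero.2 h1

/-- right translations commute with the comultiplication of the dual -/
theorem ev₂_lTensor_Rt (h : H) (y : DA ⊗[k] DA) (a c : H) :
    CartDual.ev₂ k H (LinearMap.lTensor DA (Rt h) y) (a ⊗ₜ c) = CartDual.ev₂ k H y (a ⊗ₜ (c * h)) := by
  induction y using TensorProduct.induction_on with
  | zero => simp
  | tmul f g => rw [LinearMap.lTensor_tmul, CartDual.ev₂_tmul, CartDual.ev₂_tmul, Rt_apply]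
  | add y y' hy hy' => simp only [map_add, LinearMap.add_apply, hy, hy']

theorem comul_Rt (h : H) :
    CoalgebraStruct.comul (R := k) (A := DA) ∘ₗ Rt h =
      LinearMap.lTensor DA (Rt h) ∘ₗ CoalgebraStruct.comul (R := k) (A := DA) := by
  apply LinearMap.ext; intro f
  apply (CartDual.ev₂ k H).injective
  apply TensorProduct.ext'
  intro a c
  rw [LinearMap.comp_apply, LinearMap.comp_apply, ev₂_lTensor_Rt,
    CartDual.ev₂_coalgebra_comul_tmul, CartDual.ev₂_coalgebra_comul_tmul, Rt_apply, mul_assoc]

end Trans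


section Der

variable {k : Type u} [Field k] {H : Type v} [Ring H] [HopfAlgebra k H] [Module.Finite k H]
  [Coalgebra.IsCocomm k H]

local notation "DA" => CartDual.D k H

theorem pair_mul_left (f g : DA) (h : H) (t : H ⊗[k] H) :
    LinearMap.mul' k k (TensorProduct.map f.ofConv g.ofConv (t * (h ⊗ₜ[k] (1 : H)))) =
      LinearMap.mul' k k (TensorProduct.map (Rt h f).ofConv g.ofConv t) := by
  induction t using TensorProduct.induction_on with
  | zero => simp
  | tmul a c =>
    rw [Algebra.TensorProduct.tmul_mul_tmul, mul_one, TensorProduct.map_tmul,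
      TensorProduct.map_tmul]
    rfl
  | add t t' ht ht' => rw [add_mul, map_add, map_add, ht, ht', map_add, map_add]

theorem pair_mul_right (f g : DA) (h : H) (t : H ⊗[k] H) :
    LinearMap.mul' k k (TensorProduct.map f.ofConv g.ofConv (t * ((1 : H) ⊗ₜ[k] h))) =
      LinearMap.mul' k k (TensorProduct.map f.ofConv (Rt h g).ofConv t) := by
  induction t using TensorProduct.induction_on with
  | zero => simp
  | tmul a c =>
    rw [Algebra.TensorProduct.tmul_mul_tmul, mul_one, TensorProduct.map_tmul,
      TensorProduct.map_tmul]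
    rfl
  | add t t' ht ht' => rw [add_mul, map_add, map_add, ht, ht', map_add, map_add]

/-- right translation by a primitive element satisfies the Leibniz rule -/
theorem Rt_leibniz (h : H) (hh : comul (R := k) h = h ⊗ₜ[k] (1 : H) + (1 : H) ⊗ₜ[k] h)
    (f g : DA) : Rt h (f * g) = f * Rt h g + g * Rt h f := by
  rw [mul_comm g]
  apply WithConv.ext; apply LinearMap.ext; intro a
  show (Rt h (f * g)) a = (f * Rt h g) a + (Rt h f * g) a
  rw [Rt_apply, LinearMap.convMul_apply, LinearMap.convMul_apply, LinearMap.convMul_apply,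
    Bialgebra.comul_mul, hh, mul_add, map_add, map_add, pair_mul_left, pair_mul_right, add_comm]

/-- the derivation of the dual attached to a primitive element -/
noncomputable def RtDer (h : H) (hh : comul (R := k) h = h ⊗ₜ[k] (1 : H) + (1 : H) ⊗ₜ[k] h) :
    Derivation k DA DA :=
  Derivation.mk' (Rt h) (fun f g => by
    rw [smul_eq_mul, smul_eq_mul]
    exact Rt_leibniz h hh f g)

theorem RtDer_toLinearMap (h : H)
    (hh : comul (R := k) h = h ⊗ₜ[k] (1 : H) + (1 : H) ⊗ₜ[k] h) :
    (RtDer h hh).toLinearMap = Rt h := rfl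

theorem RtDer_apply (h : H)
    (hh : comul (R := k) h = h ⊗ₜ[k] (1 : H) + (1 : H) ⊗ₜ[k] h) (f : DA) :
    RtDer h hh f = Rt h f := rfl

theorem ev₂_lTensor_of_ev (D : DA →ₗ[k] DA) (h : H) (hD : ∀ f : DA, (D f) 1 = f h)
    (y : DA ⊗[k] DA) (a : H) :
    CartDual.ev₂ k H (LinearMap.lTensor DA D y) (a ⊗ₜ 1) = CartDual.ev₂ k H y (a ⊗ₜ h) := by
  induction y using TensorProduct.induction_on with
  | zero => simp
  | tmul f g => rw [LinearMap.lTensor_tmul, CartDual.ev₂_tmul, CartDual.ev₂_tmul, hD]
  | add y y' hy hy' => simp only [map_add, LinearMap.add_apply, hy, hy']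

theorem mul_apply_one (f g : DA) : (f * g) 1 = f 1 * g 1 := CartDual.counit_mul' k H f g

theorem one_apply_one : (1 : DA) 1 = 1 := CartDual.counit_one' k H

/-- a left-invariant derivation of the dual is right translation by a primitive element -/
theorem exists_prim_of_leftInv (D : Derivation k DA DA)
    (hD : CoalgebraStruct.comul (R := k) (A := DA) ∘ₗ D.toLinearMap =
      LinearMap.lTensor DA D.toLinearMap ∘ₗ CoalgebraStruct.comul (R := k) (A := DA)) :
    ∃ h : H, comul (R := k) h = h ⊗ₜ[k] (1 : H) + (1 : H) ⊗ₜ[k] h ∧ D.toLinearMap = Rt h := by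
  obtain ⟨h, hh⟩ := FinDual.exists_ev_eq (k := k) (A := H)
    (CartDual.counit k H ∘ₗ D.toLinearMap)
  have hD1 : ∀ f : DA, (D f) 1 = f h := fun f => hh f
  refine ⟨h, ?_, ?_⟩
  · apply FinDual.isPrimitive_of_deriv (1 : H) h
    intro f g
    have h1 : (D (f * g)) 1 = (f * g) h := hD1 _
    rw [Derivation.leibniz, smul_eq_mul, smul_eq_mul] at h1
    have h2 : (f * D g + g * D f) 1 = (f * D g) 1 + (g * D f) 1 := rfl
    rw [h2, mul_apply_one, mul_apply_one, hD1, hD1] at h1
    rw [← CartDual.coe_apply, ← h1, ← CartDual.coe_apply, ← CartDual.coe_apply,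
      ← CartDual.coe_apply, ← CartDual.coe_apply, mul_comm (g 1)]
  · apply LinearMap.ext; intro f
    apply WithConv.ext; apply LinearMap.ext; intro a
    have h1 := LinearMap.congr_fun hD f
    rw [LinearMap.comp_apply, LinearMap.comp_apply] at h1
    have h2 := congrArg (fun y => CartDual.ev₂ k H y (a ⊗ₜ[k] (1 : H))) h1
    rw [ev₂_lTensor_of_ev D.toLinearMap h hD1, CartDual.ev₂_coalgebra_comul_tmul,
      CartDual.ev₂_coalgebra_comul_tmul, mul_one] at h2
    exact h2

end Der


section Height

variable {k : Type u} [Field k] {H : Type v} [Ring H] [HopfAlgebra k H] [Module.Finite k H]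
  [Coalgebra.IsCocomm k H] (p : ℕ) [hp : Fact p.Prime] [CharP k p]

local notation "DA" => CartDual.D k H

include hp in
omit [Module.Finite k H] [Coalgebra.IsCocomm k H] in
theorem add_pow_p_of_algebra {B : Type*} [CommRing B] [Algebra k B] (a c : B) :
    (a + c) ^ p = a ^ p + c ^ p := by
  have h0 : ((p : ℕ) : B) = 0 := by
    rw [← map_natCast (algebraMap k B), CharP.cast_eq_zero k p, map_zero]
  rw [(Commute.all a c).add_pow_prime_eq hp.out, h0]
  simp

theorem counit_prim (h : H) (hh : comul (R := k) h = h ⊗ₜ[k] (1 : H) + (1 : H) ⊗ₜ[k] h) :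
    counit (R := k) h = 0 := by
  have h1 := Coalgebra.rTensor_counit_comul (R := k) h
  rw [hh, map_add, LinearMap.rTensor_tmul, LinearMap.rTensor_tmul, Bialgebra.counit_one] at h1
  have h2 : counit (R := k) h ⊗ₜ[k] (1 : H) = 0 := by
    rwa [add_eq_right] at h1
  have h3 := congrArg (fun t => counit (R := k) (TensorProduct.lid k H t)) h2
  simpa only [TensorProduct.lid_tmul, map_smul, Bialgebra.counit_one, map_zero, smul_eq_mul,
    mul_one] using h3

theorem conv_apply_prim (h : H) (hh : comul (R := k) h = h ⊗ₜ[k] (1 : H) + (1 : H) ⊗ₜ[k] h)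
    (f g : DA) : (f * g) h = f h * g 1 + f 1 * g h := by
  rw [LinearMap.convMul_apply, hh, map_add, map_add, TensorProduct.map_tmul,
    TensorProduct.map_tmul, LinearMap.mul'_apply, LinearMap.mul'_apply]

theorem pow_apply_one (f : DA) (n : ℕ) : (f ^ n) 1 = (f 1) ^ n := by
  induction n with
  | zero => rw [pow_zero, pow_zero, one_apply_one]
  | succ n ih => rw [pow_succ, pow_succ, mul_apply_one, ih]

theorem pow_succ_apply_prim (h : H)
    (hh : comul (R := k) h = h ⊗ₜ[k] (1 : H) + (1 : H) ⊗ₜ[k] h) (f : DA) (n : ℕ) :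
    (f ^ (n + 1)) h = ((n : k) + 1) * ((f 1) ^ n * f h) := by
  induction n with
  | zero => rw [zero_add, pow_one, pow_zero, Nat.cast_zero, zero_add, one_mul, one_mul]
  | succ n ih =>
    rw [pow_succ f (n + 1), conv_apply_prim h hh, ih, pow_apply_one, Nat.cast_succ]
    ring

include hp in
theorem pow_p_apply_prim (h : H)
    (hh : comul (R := k) h = h ⊗ₜ[k] (1 : H) + (1 : H) ⊗ₜ[k] h) (f : DA) :
    (f ^ p) h = 0 := by
  have hp1 : p = (p - 1) + 1 := by
    have := hp.out.pos
    omega
  rw [hp1, pow_succ_apply_prim h hh]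
  have : ((p - 1 : ℕ) : k) + 1 = 0 := by
    rw [← Nat.cast_succ, Nat.succ_eq_add_one, ← hp1]
    exact CharP.cast_eq_zero k p
  rw [this, zero_mul]

include hp in
theorem ev₂_pow_p (h h' : H)
    (Ph : ∀ f : DA, (f ^ p) h = (f 1) ^ p * counit (R := k) h)
    (Ph' : ∀ f : DA, (f ^ p) h' = (f 1) ^ p * counit (R := k) h')
    (y : DA ⊗[k] DA) :
    CartDual.ev₂ k H (y ^ p) (h ⊗ₜ h') =
      (CartDual.ev₂ k H y ((1 : H) ⊗ₜ (1 : H))) ^ p *
        (counit (R := k) h * counit (R := k) h') := by
  have hp0 : p ≠ 0 := hp.out.ne_zero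
  induction y using TensorProduct.induction_on with
  | zero => rw [zero_pow (M₀ := DA ⊗[k] DA) hp0, map_zero, LinearMap.zero_apply,
      LinearMap.zero_apply, zero_pow hp0, zero_mul]
  | tmul f g =>
    rw [Algebra.TensorProduct.tmul_pow, CartDual.ev₂_tmul, CartDual.ev₂_tmul, Ph, Ph', mul_pow]
    ring
  | add y y' hy hy' =>
    have h1 : (y + y') ^ p = y ^ p + y' ^ p :=
      add_pow_p_of_algebra (k := k) p (B := DA ⊗[k] DA) y y'
    rw [h1, map_add, LinearMap.add_apply, hy, hy', map_add, LinearMap.add_apply, add_pow_char,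
      add_mul]

include hp in
/-- if a finite cocommutative Hopf algebra is generated by primitive elements, the `p`-th
power on its dual is the `p`-th power of the value at the identity -/
theorem pow_p_apply (S : Set H)
    (hS : ∀ x ∈ S, comul (R := k) x = x ⊗ₜ[k] (1 : H) + (1 : H) ⊗ₜ[k] x)
    (hgen : Algebra.adjoin k S = ⊤) (h : H) :
    ∀ f : DA, (f ^ p) h = (f 1) ^ p * counit (R := k) h := by
  have hmem : h ∈ Algebra.adjoin k S := by
    rw [hgen]
    trivial
  induction hmem using Algebra.adjoin_induction with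
  | mem x hx =>
    intro f
    rw [pow_p_apply_prim p x (hS x hx), counit_prim x (hS x hx), mul_zero]
  | algebraMap c =>
    intro f
    rw [Algebra.algebraMap_eq_smul_one, CartDual.coe_apply, map_smul, map_smul,
      ← CartDual.coe_apply, pow_apply_one, Bialgebra.counit_one, smul_eq_mul, smul_eq_mul]
    ring
  | add x y _ _ hx hy =>
    intro f
    rw [CartDual.coe_apply, map_add, map_add, ← CartDual.coe_apply, ← CartDual.coe_apply, hx, hy,
      mul_add]
  | mul x y _ _ hx hy =>
    intro f
    rw [← CartDual.ev₂_coalgebra_comul_tmul, ← Bialgebra.comulAlgHom_apply, map_pow,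
      ev₂_pow_p p x y hx hy, Bialgebra.comulAlgHom_apply, CartDual.ev₂_coalgebra_comul_tmul,
      mul_one, Bialgebra.counit_mul]

include hp in
theorem pow_p_eq_zero (S : Set H)
    (hS : ∀ x ∈ S, comul (R := k) x = x ⊗ₜ[k] (1 : H) + (1 : H) ⊗ₜ[k] x)
    (hgen : Algebra.adjoin k S = ⊤) (f : DA) (hf : f 1 = 0) : f ^ p = 0 := by
  apply WithConv.ext; apply LinearMap.ext; intro h
  show (f ^ p) h = 0
  rw [pow_p_apply p S hS hgen h f, hf, zero_pow hp.out.ne_zero, zero_mul]

end Height

end Groth.Agent.H83.DualDer
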