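import Groth.Agent.H83.RPBW.HopfU

/-! The restricted enveloping algebra is a cocommutative Hopf algebra. -/

set_option autoImplicit false
set_option linter.unusedSectionVars false
universe u v w

namespace Groth.Agent.H83.RPBW

open TensorProduct MulOpposite

attribute [local instance] LieRing.ofAssociativeRing

section Res

variable (k : Type u) [CommRing k] (p : ℕ) [hp : Fact p.Prime] [CharP k p]
  {L : Type v} [LieRing L] [LieAlgebra k L] {ι : Type w} [LinearOrder ι] [Fintype ι]
  (b : Module.Basis ι k L) (φ : PLie.PMap k p L)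

local notation "U" => UniversalEnvelopingAlgebra k L
local notation "ιU" => UniversalEnvelopingAlgebra.ι k
local notation "H" => Ures k p b φ

theorem comulH_coassoc :
    (Algebra.TensorProduct.assoc k k k H H H).toAlgHom.comp
      ((Algebra.TensorProduct.map (comulH k p b φ) (.id k H)).comp (comulH k p b φ)) =
      (Algebra.TensorProduct.map (.id k H) (comulH k p b φ)).comp (comulH k p b φ) := by
  apply Ures_algHom_ext
  intro x
  simp only [AlgHom.comp_apply, comulH_ι, map_add, Algebra.TensorProduct.map_tmul, map_one,
    AlgHom.id_apply, add_tmul, tmul_add, Algebra.TensorProduct.one_def]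
  abel

theorem comulH_rTensor :
    (Algebra.TensorProduct.map (counitH k p b φ) (.id k H)).comp (comulH k p b φ) =
      (Algebra.TensorProduct.lid k H).symm := by
  apply Ures_algHom_ext
  intro x
  simp only [AlgHom.comp_apply, comulH_ι, map_add, Algebra.TensorProduct.map_tmul, map_one,
    AlgHom.id_apply, counitH_ι, zero_tmul, zero_add, AlgEquiv.coe_toAlgHom,
    Algebra.TensorProduct.lid_symm_apply]

theorem comulH_lTensor :
    (Algebra.TensorProduct.map (.id k H) (counitH k p b φ)).comp (comulH k p b φ) =
      (Algebra.TensorProduct.rid k k H).symm := by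
  apply Ures_algHom_ext
  intro x
  simp only [AlgHom.comp_apply, comulH_ι, map_add, Algebra.TensorProduct.map_tmul, map_one,
    AlgHom.id_apply, counitH_ι, tmul_zero, add_zero, AlgEquiv.coe_toAlgHom,
    Algebra.TensorProduct.rid_symm_apply]

noncomputable instance instBialgebraUres : Bialgebra k (Ures k p b φ) :=
  Bialgebra.ofAlgHom (comulH k p b φ) (counitH k p b φ) (comulH_coassoc k p b φ)
    (comulH_rTensor k p b φ) (comulH_lTensor k p b φ)

theorem comul_ιres (x : L) : Coalgebra.comul (R := k) (ιres k p b φ x) =
    ιres k p b φ x ⊗ₜ[k] (1 : H) + (1 : H) ⊗ₜ[k] ιres k p b φ x :=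
  comulH_ι k p b φ x

theorem counit_ιres (x : L) : Coalgebra.counit (R := k) (ιres k p b φ x) = 0 :=
  counitH_ι k p b φ x

instance instIsCocommUres : Coalgebra.IsCocomm k (Ures k p b φ) where
  comm_comp_comul := by
    have h : (Algebra.TensorProduct.comm k H H).toAlgHom.comp (comulH k p b φ) =
        comulH k p b φ := by
      apply Ures_algHom_ext
      intro x
      simp only [AlgHom.comp_apply, comulH_ι, map_add, AlgEquiv.coe_toAlgHom,
        Algebra.TensorProduct.comm_tmul]
      abel
    ext a
    exact DFunLike.congr_fun h a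

end Res

section Antipode

variable (k : Type u) [CommRing k] (p : ℕ) [hp : Fact p.Prime] [CharP k p]
  {L : Type v} [LieRing L] [LieAlgebra k L] {ι : Type w} [LinearOrder ι] [Fintype ι]
  (b : Module.Basis ι k L) (φ : PLie.PMap k p L)

local notation "U" => UniversalEnvelopingAlgebra k L
local notation "ιU" => UniversalEnvelopingAlgebra.ι k
local notation "H" => Ures k p b φ

/-- the antipode as a linear map -/
noncomputable def antipodeLinH : H →ₗ[k] H :=
  (opLinearEquiv k).symm.toLinearMap ∘ₗ (antipodeH k p b φ).toLinearMap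

theorem antipodeLinH_apply (a : H) : antipodeLinH k p b φ a = unop (antipodeH k p b φ a) := rfl

theorem antipodeLinH_mul (a c : H) :
    antipodeLinH k p b φ (a * c) = antipodeLinH k p b φ c * antipodeLinH k p b φ a := by
  rw [antipodeLinH_apply, antipodeLinH_apply, antipodeLinH_apply, map_mul, unop_mul]

theorem antipodeLinH_one : antipodeLinH k p b φ 1 = 1 := by
  rw [antipodeLinH_apply, map_one, unop_one]

theorem antipodeLinH_ι (x : L) : antipodeLinH k p b φ (ιres k p b φ x) = -ιres k p b φ x := by
  rw [antipodeLinH_apply, antipodeH_ι, unop_op]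

/-- the restricted enveloping algebra is spanned by `1` and the left multiples of `L` -/
theorem mem_span_left (h : H) : h ∈ Submodule.span k
    ({(1 : H)} ∪ {y : H | ∃ (x : L) (h' : H), y = ιres k p b φ x * h'}) := by
  obtain ⟨W, hW⟩ : ∃ W : Submodule k H, W = Submodule.span k
    ({(1 : H)} ∪ {y : H | ∃ (x : L) (h' : H), y = ιres k p b φ x * h'}) := ⟨_, rfl⟩
  rw [← hW]
  have hgen : ∀ (x : L) (w : H), ιres k p b φ x * w ∈ W := by
    intro x w
    rw [hW]
    exact Submodule.subset_span (Or.inr ⟨x, w, rfl⟩)
  have hall : ∀ u : U, ∀ w ∈ W, Ideal.Quotient.mkₐ k (JR k p b φ) u * w ∈ W := by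
    intro u
    have hu : u ∈ Algebra.adjoin k (Set.range (ιU : L → U)) := by
      rw [PBWRing.adjoin_range_ι]
      trivial
    induction hu using Algebra.adjoin_induction with
    | mem u hu =>
      obtain ⟨x, rfl⟩ := hu
      intro w _
      exact hgen x w
    | algebraMap c =>
      intro w hw
      rw [AlgHom.commutes, ← Algebra.smul_def]
      exact Submodule.smul_mem _ c hw
    | add u u' _ _ h1 h2 =>
      intro w hw
      rw [map_add, add_mul]
      exact Submodule.add_mem _ (h1 w hw) (h2 w hw)
    | mul u u' _ _ h1 h2 =>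
      intro w hw
      rw [map_mul, mul_assoc]
      exact h1 _ (h2 w hw)
  obtain ⟨u, rfl⟩ := Ideal.Quotient.mk_surjective h
  have h1 : (1 : H) ∈ W := by
    rw [hW]
    exact Submodule.subset_span (Or.inl rfl)
  have := hall u 1 h1
  rwa [mul_one] at this

/-- the restricted enveloping algebra is spanned by `1` and the right multiples of `L` -/
theorem mem_span_right (h : H) : h ∈ Submodule.span k
    ({(1 : H)} ∪ {y : H | ∃ (x : L) (h' : H), y = h' * ιres k p b φ x}) := by
  obtain ⟨W, hW⟩ : ∃ W : Submodule k H, W = Submodule.span k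
    ({(1 : H)} ∪ {y : H | ∃ (x : L) (h' : H), y = h' * ιres k p b φ x}) := ⟨_, rfl⟩
  rw [← hW]
  have hgen : ∀ (x : L) (w : H), w * ιres k p b φ x ∈ W := by
    intro x w
    rw [hW]
    exact Submodule.subset_span (Or.inr ⟨x, w, rfl⟩)
  have hall : ∀ u : U, ∀ w ∈ W, w * Ideal.Quotient.mkₐ k (JR k p b φ) u ∈ W := by
    intro u
    have hu : u ∈ Algebra.adjoin k (Set.range (ιU : L → U)) := by
      rw [PBWRing.adjoin_range_ι]
      trivial
    induction hu using Algebra.adjoin_induction with
    | mem u hu =>
      obtain ⟨x, rfl⟩ := hu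
      intro w _
      exact hgen x w
    | algebraMap c =>
      intro w hw
      rw [AlgHom.commutes, ← Algebra.commutes, ← Algebra.smul_def]
      exact Submodule.smul_mem _ c hw
    | add u u' _ _ h1 h2 =>
      intro w hw
      rw [map_add, mul_add]
      exact Submodule.add_mem _ (h1 w hw) (h2 w hw)
    | mul u u' _ _ h1 h2 =>
      intro w hw
      rw [map_mul, ← mul_assoc]
      exact h2 _ (h1 w hw)
  obtain ⟨u, rfl⟩ := Ideal.Quotient.mk_surjective h
  have h1 : (1 : H) ∈ W := by
    rw [hW]
    exact Submodule.subset_span (Or.inl rfl)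
  have := hall u 1 h1
  rwa [one_mul] at this

theorem mul_antipode_rTensor_comulH (h : H) :
    LinearMap.mul' k H (LinearMap.rTensor H (antipodeLinH k p b φ) (Coalgebra.comul (R := k) h)) =
      algebraMap k H (Coalgebra.counit (R := k) h) := by
  have key : ∀ (x : L) (t : H ⊗[k] H), LinearMap.mul' k H (LinearMap.rTensor H
      (antipodeLinH k p b φ) ((ιres k p b φ x ⊗ₜ[k] (1 : H) + (1 : H) ⊗ₜ[k] ιres k p b φ x) * t)) =
      0 := by
    intro x t
    induction t using TensorProduct.induction_on with
    | zero => simp
    | tmul a c =>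
      rw [add_mul, Algebra.TensorProduct.tmul_mul_tmul, Algebra.TensorProduct.tmul_mul_tmul,
        one_mul, one_mul, map_add, map_add, LinearMap.rTensor_tmul, LinearMap.rTensor_tmul,
        LinearMap.mul'_apply, LinearMap.mul'_apply, antipodeLinH_mul, antipodeLinH_ι]
      noncomm_ring
    | add t t' h1 h2 => rw [mul_add, map_add, map_add, h1, h2, add_zero]
  have hmem := mem_span_left k p b φ h
  induction hmem using Submodule.span_induction with
  | mem y hy =>
    rcases hy with rfl | ⟨x, h', rfl⟩
    · rw [Bialgebra.comul_one, Algebra.TensorProduct.one_def, LinearMap.rTensor_tmul,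
        LinearMap.mul'_apply, antipodeLinH_one, one_mul, Bialgebra.counit_one, map_one]
    · rw [Bialgebra.comul_mul, comul_ιres, key, Bialgebra.counit_mul, counit_ιres, zero_mul,
        map_zero]
  | zero => simp
  | add y y' _ _ h1 h2 => simp only [map_add, h1, h2]
  | smul c y _ h1 =>
    simp only [map_smul, h1, smul_eq_mul, map_mul]
    rw [Algebra.smul_def]

theorem mul_antipode_lTensor_comulH (h : H) :
    LinearMap.mul' k H (LinearMap.lTensor H (antipodeLinH k p b φ) (Coalgebra.comul (R := k) h)) =
      algebraMap k H (Coalgebra.counit (R := k) h) := by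
  have key : ∀ (x : L) (t : H ⊗[k] H), LinearMap.mul' k H (LinearMap.lTensor H
      (antipodeLinH k p b φ) (t * (ιres k p b φ x ⊗ₜ[k] (1 : H) + (1 : H) ⊗ₜ[k] ιres k p b φ x))) =
      0 := by
    intro x t
    induction t using TensorProduct.induction_on with
    | zero => simp
    | tmul a c =>
      rw [mul_add, Algebra.TensorProduct.tmul_mul_tmul, Algebra.TensorProduct.tmul_mul_tmul,
        mul_one, mul_one, map_add, map_add, LinearMap.lTensor_tmul, LinearMap.lTensor_tmul,
        LinearMap.mul'_apply, LinearMap.mul'_apply, antipodeLinH_mul, antipodeLinH_ι]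
      noncomm_ring
    | add t t' h1 h2 => rw [add_mul, map_add, map_add, h1, h2, add_zero]
  have hmem := mem_span_right k p b φ h
  induction hmem using Submodule.span_induction with
  | mem y hy =>
    rcases hy with rfl | ⟨x, h', rfl⟩
    · rw [Bialgebra.comul_one, Algebra.TensorProduct.one_def, LinearMap.lTensor_tmul,
        LinearMap.mul'_apply, antipodeLinH_one, one_mul, Bialgebra.counit_one, map_one]
    · rw [Bialgebra.comul_mul, comul_ιres, key, Bialgebra.counit_mul, counit_ιres, mul_zero,
        map_zero]
  | zero => simp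
  | add y y' _ _ h1 h2 => simp only [map_add, h1, h2]
  | smul c y _ h1 =>
    simp only [map_smul, h1, smul_eq_mul, map_mul]
    rw [Algebra.smul_def]

noncomputable instance instHopfAlgebraUres : HopfAlgebra k (Ures k p b φ) where
  antipode := antipodeLinH k p b φ
  mul_antipode_rTensor_comul := by
    ext h
    exact mul_antipode_rTensor_comulH k p b φ h
  mul_antipode_lTensor_comul := by
    ext h
    exact mul_antipode_lTensor_comulH k p b φ h

end Antipode

end Groth.Agent.H83.RPBW
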