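import Groth.Agent.H83.RPBW.Restricted

/-! The Hopf algebra structure of the restricted enveloping algebra. -/

set_option autoImplicit false
set_option linter.unusedSectionVars false
universe u v w

namespace Groth.Agent.H83.RPBW

open TensorProduct MulOpposite

attribute [local instance] LieRing.ofAssociativeRing

section Env

variable (k : Type u) [CommRing k] (L : Type v) [LieRing L] [LieAlgebra k L]

local notation "U" => UniversalEnvelopingAlgebra k L
local notation "ιU" => UniversalEnvelopingAlgebra.ι k

/-- two algebra maps out of the enveloping algebra agreeing on `L` are equal -/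
theorem env_algHom_ext {B : Type*} [Ring B] [Algebra k B] {f g : U →ₐ[k] B}
    (h : ∀ x : L, f (ιU x) = g (ιU x)) : f = g := by
  apply UniversalEnvelopingAlgebra.hom_ext
  ext x
  exact h x

/-- the diagonal Lie map `x ↦ x ⊗ 1 + 1 ⊗ x` -/
noncomputable def diagLie : L →ₗ⁅k⁆ U ⊗[k] U :=
  { toFun := fun x => ιU x ⊗ₜ[k] (1 : U) + (1 : U) ⊗ₜ[k] ιU x
    map_add' := fun x y => by
      rw [map_add, add_tmul, tmul_add]
      abel
    map_smul' := fun c x => by
      rw [map_smul, RingHom.id_apply, smul_add, smul_tmul', tmul_smul]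
    map_lie' := by
      intro x y
      rw [LieRing.of_associative_ring_bracket, LieHom.map_lie,
        LieRing.of_associative_ring_bracket]
      simp only [add_mul, mul_add, Algebra.TensorProduct.tmul_mul_tmul, mul_one, one_mul,
        sub_tmul, tmul_sub]
      abel }

theorem diagLie_apply (x : L) :
    diagLie k L x = ιU x ⊗ₜ[k] (1 : U) + (1 : U) ⊗ₜ[k] ιU x := rfl

/-- the comultiplication of the enveloping algebra -/
noncomputable def comulU : U →ₐ[k] U ⊗[k] U := UniversalEnvelopingAlgebra.lift k (diagLie k L)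

theorem comulU_ι (x : L) :
    comulU k L (ιU x) = ιU x ⊗ₜ[k] (1 : U) + (1 : U) ⊗ₜ[k] ιU x := by
  rw [comulU, UniversalEnvelopingAlgebra.lift_ι_apply, diagLie_apply]

/-- the zero Lie map to the ground ring -/
noncomputable def zeroLie : L →ₗ⁅k⁆ k :=
  { (0 : L →ₗ[k] k) with
    map_lie' := by
      intro x y
      rw [LieRing.of_associative_ring_bracket]
      simp }

/-- the counit of the enveloping algebra -/
noncomputable def counitU : U →ₐ[k] k := UniversalEnvelopingAlgebra.lift k (zeroLie k L)

theorem counitU_ι (x : L) : counitU k L (ιU x) = 0 := by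
  rw [counitU, UniversalEnvelopingAlgebra.lift_ι_apply]
  rfl

/-- the antipodal Lie map `x ↦ op (-x)` -/
noncomputable def negLie : L →ₗ⁅k⁆ Uᵐᵒᵖ :=
  { toFun := fun x => op (-ιU x)
    map_add' := fun x y => by
      rw [map_add, neg_add, op_add]
    map_smul' := fun c x => by
      rw [map_smul, ← smul_neg, op_smul, RingHom.id_apply]
    map_lie' := by
      intro x y
      rw [LieRing.of_associative_ring_bracket, LieHom.map_lie,
        LieRing.of_associative_ring_bracket, ← op_mul, ← op_mul, ← op_sub]
      congr 1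
      simp only [neg_mul, mul_neg, neg_neg, neg_sub] }

/-- the antipode of the enveloping algebra, as an algebra map to the opposite algebra -/
noncomputable def antipodeU : U →ₐ[k] Uᵐᵒᵖ := UniversalEnvelopingAlgebra.lift k (negLie k L)

theorem antipodeU_ι (x : L) : antipodeU k L (ιU x) = op (-ιU x) := by
  rw [antipodeU, UniversalEnvelopingAlgebra.lift_ι_apply]
  rfl

end Env

section Char

variable (k : Type u) [CommRing k] (p : ℕ) [hp : Fact p.Prime] [CharP k p]
  {B : Type v} [Ring B] [Algebra k B]

include hp k in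
/-- the `p`-th power is additive on commuting elements of an algebra of characteristic `p` -/
theorem add_pow_of_commute (a c : B) (h : Commute a c) : (a + c) ^ p = a ^ p + c ^ p := by
  rw [h.add_pow_prime_eq hp.out, natCast_algebra_eq_zero k p (A := B)]
  simp

include hp k in
theorem neg_pow_char (a : B) : (-a) ^ p = -a ^ p := by
  have h1 := neg_one_pow_pred (p := p) (natCast_algebra_eq_zero k p (A := B))
  have hp1 : p = (p - 1) + 1 := by
    have := hp.out.pos
    omega
  rw [neg_pow, hp1, pow_succ (-1 : B), ← hp1, h1, one_mul, neg_one_mul]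

end Char

section Res

variable (k : Type u) [CommRing k] (p : ℕ) [hp : Fact p.Prime] [CharP k p]
  {L : Type v} [LieRing L] [LieAlgebra k L] {ι : Type w} [LinearOrder ι] [Fintype ι]
  (b : Module.Basis ι k L) (φ : PLie.PMap k p L)

local notation "U" => UniversalEnvelopingAlgebra k L
local notation "ιU" => UniversalEnvelopingAlgebra.ι k
local notation "H" => Ures k p b φ

theorem mk_ι (x : L) : Ideal.Quotient.mkₐ k (JR k p b φ) (ιU x) = ιres k p b φ x := rfl

/-- two algebra maps out of the restricted enveloping algebra agreeing on `L` are equal -/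
theorem Ures_algHom_ext {B : Type*} [Ring B] [Algebra k B] {f g : H →ₐ[k] B}
    (h : ∀ x : L, f (ιres k p b φ x) = g (ιres k p b φ x)) : f = g := by
  apply Ideal.Quotient.algHom_ext
  apply env_algHom_ext
  intro x
  exact h x

/-- an algebra map on the enveloping algebra killing the central elements kills the ideal -/
theorem eq_zero_of_mem_JR {B : Type*} [Ring B] [Algebra k B] (f : U →ₐ[k] B)
    (hf : ∀ i, f (ιU (b i)) ^ p = f (ιU (φ (b i)))) (a : U) (ha : a ∈ JR k p b φ) : f a = 0 := by
  have hle : JR k p b φ ≤ RingHom.ker (f : U →+* B) := by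
    unfold JR J
    rw [Ideal.span_le]
    rintro _ ⟨i, rfl⟩
    rw [SetLike.mem_coe, RingHom.mem_ker]
    unfold zetaGen
    change f (ιU (b i) ^ p - ιU (φ (b i))) = 0
    rw [map_sub, map_pow, hf i, sub_self]
  exact hle ha

/-- the comultiplication of the restricted enveloping algebra -/
noncomputable def comulH : H →ₐ[k] H ⊗[k] H :=
  Ideal.Quotient.liftₐ (JR k p b φ)
    ((Algebra.TensorProduct.map (Ideal.Quotient.mkₐ k (JR k p b φ))
      (Ideal.Quotient.mkₐ k (JR k p b φ))).comp (comulU k L))
    (by
      apply eq_zero_of_mem_JR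
      intro i
      simp only [AlgHom.comp_apply, comulU_ι, map_add, Algebra.TensorProduct.map_tmul, map_one,
        mk_ι]
      rw [add_pow_of_commute k p, Algebra.TensorProduct.tmul_pow, Algebra.TensorProduct.tmul_pow,
        one_pow, ιres_pmap]
      rw [Commute, SemiconjBy, Algebra.TensorProduct.tmul_mul_tmul,
        Algebra.TensorProduct.tmul_mul_tmul, mul_one, one_mul])

theorem comulH_ι (x : L) : comulH k p b φ (ιres k p b φ x) =
    ιres k p b φ x ⊗ₜ[k] (1 : H) + (1 : H) ⊗ₜ[k] ιres k p b φ x := by
  rw [ιres_apply]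
  change (Ideal.Quotient.liftₐ (JR k p b φ) _ _) (Ideal.Quotient.mkₐ k (JR k p b φ) (ιU x)) = _
  rw [← AlgHom.comp_apply, Ideal.Quotient.liftₐ_comp]
  simp only [AlgHom.comp_apply, comulU_ι, map_add, Algebra.TensorProduct.map_tmul, map_one, mk_ι]
  rfl

/-- the counit of the restricted enveloping algebra -/
noncomputable def counitH : H →ₐ[k] k :=
  Ideal.Quotient.liftₐ (JR k p b φ) (counitU k L)
    (by
      apply eq_zero_of_mem_JR
      intro i
      rw [counitU_ι, counitU_ι, zero_pow hp.out.ne_zero])

theorem counitH_ι (x : L) : counitH k p b φ (ιres k p b φ x) = 0 := by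
  rw [ιres_apply]
  change (Ideal.Quotient.liftₐ (JR k p b φ) _ _) (Ideal.Quotient.mkₐ k (JR k p b φ) (ιU x)) = _
  rw [← AlgHom.comp_apply, Ideal.Quotient.liftₐ_comp, counitU_ι]

/-- the antipode of the restricted enveloping algebra, as an algebra map to the opposite -/
noncomputable def antipodeH : H →ₐ[k] Hᵐᵒᵖ :=
  Ideal.Quotient.liftₐ (JR k p b φ)
    ((AlgHom.op (Ideal.Quotient.mkₐ k (JR k p b φ))).comp (antipodeU k L))
    (by
      apply eq_zero_of_mem_JR
      intro i
      simp only [AlgHom.comp_apply, antipodeU_ι]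
      change op (Ideal.Quotient.mkₐ k (JR k p b φ) (-ιU (b i))) ^ p =
        op (Ideal.Quotient.mkₐ k (JR k p b φ) (-ιU (φ (b i))))
      rw [← op_pow, map_neg, map_neg, mk_ι, mk_ι, neg_pow_char k p, ιres_pmap])

theorem antipodeH_ι (x : L) : antipodeH k p b φ (ιres k p b φ x) = op (-ιres k p b φ x) := by
  rw [ιres_apply]
  change (Ideal.Quotient.liftₐ (JR k p b φ) _ _) (Ideal.Quotient.mkₐ k (JR k p b φ) (ιU x)) = _
  rw [← AlgHom.comp_apply, Ideal.Quotient.liftₐ_comp]
  simp only [AlgHom.comp_apply, antipodeU_ι]
  rfl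

end Res

end Groth.Agent.H83.RPBW
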