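import Mathlib

/-! A unitriangular endomorphism of a free module with a degree function on its basis is
bijective. -/

set_option autoImplicit false
universe u w

namespace Groth.Agent.H83.RPBW

section Tri

variable {k : Type u} [CommRing k] {σ : Type w} (deg : σ → ℕ)

/-- the strict degree filtration -/
noncomputable def Vlt (k : Type u) [CommRing k] {σ : Type w} (deg : σ → ℕ) (m : ℕ) :
    Submodule k (σ →₀ k) :=
  Finsupp.supported k k {t | deg t < m}

theorem Vlt_zero : Vlt k deg 0 = ⊥ := by
  unfold Vlt
  have : {t : σ | deg t < 0} = ∅ := by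
    ext t
    simp
  rw [this, Finsupp.supported_empty]

theorem Vlt_mono {m n : ℕ} (h : m ≤ n) : Vlt k deg m ≤ Vlt k deg n :=
  Finsupp.supported_mono fun _ ht => lt_of_lt_of_le ht h

theorem single_mem_Vlt {s : σ} {m : ℕ} (h : deg s < m) (c : k) :
    Finsupp.single s c ∈ Vlt k deg m :=
  Finsupp.single_mem_supported k c h

theorem exists_mem_Vlt (v : σ →₀ k) : ∃ m, v ∈ Vlt k deg m := by
  classical
  refine ⟨v.support.sup deg + 1, ?_⟩
  unfold Vlt
  rw [Finsupp.mem_supported]
  intro t ht
  have : deg t ≤ v.support.sup deg := Finset.le_sup (f := deg) ht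
  show deg t < _
  omega

variable (T : (σ →₀ k) →ₗ[k] (σ →₀ k))
  (h : ∀ s, T (Finsupp.single s 1) - Finsupp.single s 1 ∈ Vlt k deg (deg s))

include h in
theorem sub_mem_Vlt {m : ℕ} {v : σ →₀ k} (hv : v ∈ Vlt k deg (m + 1)) : T v - v ∈ Vlt k deg m := by
  unfold Vlt at hv
  rw [Finsupp.supported_eq_span_single] at hv
  have hle : Submodule.span k ((fun i => Finsupp.single i (1 : k)) '' {t | deg t < m + 1}) ≤
      (Vlt k deg m).comap (T - (LinearMap.id : (σ →₀ k) →ₗ[k] (σ →₀ k))) := by
    rw [Submodule.span_le]
    rintro _ ⟨s, hs, rfl⟩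
    rw [SetLike.mem_coe, Submodule.mem_comap, LinearMap.sub_apply, LinearMap.id_apply]
    exact Vlt_mono deg (Nat.lt_succ_iff.1 hs) (h s)
  have := hle hv
  rwa [Submodule.mem_comap, LinearMap.sub_apply, LinearMap.id_apply] at this

include h in
/-- a unitriangular endomorphism is bijective -/
theorem triangular_bijective : Function.Bijective T := by
  constructor
  · rw [← LinearMap.ker_eq_bot, eq_bot_iff]
    intro v hv
    rw [LinearMap.mem_ker] at hv
    obtain ⟨M, hM⟩ := exists_mem_Vlt deg v
    have key : ∀ m, v ∈ Vlt k deg m → v ∈ Vlt k deg 0 := by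
      intro m
      induction m with
      | zero => exact id
      | succ m ih =>
        intro hm
        apply ih
        have h1 := sub_mem_Vlt deg T h hm
        rw [hv, zero_sub] at h1
        exact (Submodule.neg_mem_iff _).1 h1
    have := key M hM
    rwa [Vlt_zero] at this
  · have key : ∀ m, Vlt k deg m ≤ LinearMap.range T := by
      intro m
      induction m with
      | zero =>
        rw [Vlt_zero]
        exact bot_le
      | succ m ih =>
        intro v hv
        have h1 := ih (sub_mem_Vlt deg T h hv)
        have h2 : T v ∈ LinearMap.range T := ⟨v, rfl⟩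
        have h3 := Submodule.sub_mem _ h2 h1
        rwa [sub_sub_cancel] at h3
    intro v
    obtain ⟨M, hM⟩ := exists_mem_Vlt deg v
    exact key M hM

end Tri

end Groth.Agent.H83.RPBW
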