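import Groth.Agent.H83.PBWRing.Final
import Groth.Agent.H83.RPBW.Tri

/-! The degree filtration of the enveloping algebra of a free Lie algebra and a calculus of
leading monomials. -/

set_option autoImplicit false
set_option linter.unusedSectionVars false
universe u v w

namespace Groth.Agent.H83.RPBW

open Groth.Agent.H83.PBWRing Multiset

attribute [local instance] LieRing.ofAssociativeRing

variable {k : Type u} [CommRing k] {L : Type v} [LieRing L] [LieAlgebra k L]
  {ι : Type w} [LinearOrder ι] (b : Module.Basis ι k L)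

local notation "U" => UniversalEnvelopingAlgebra k L
local notation "ιU" => UniversalEnvelopingAlgebra.ι k

/-- `phi` intertwines left multiplication with the action on the symmetric module -/
theorem mul_phi (x : L) (v : S k ι) : ιU x * phi b v = phi b (rho b x v) := by
  have : ((LinearMap.mulLeft k (ιU x)) ∘ₗ phi b) v = (phi b ∘ₗ rho b x) v := by
    have hv : v ∈ (⊤ : Submodule k (S k ι)) := trivial
    rw [← Finsupp.supported_univ, Finsupp.supported_eq_span_single] at hv
    refine LinearMap.eqOn_span ?_ hv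
    rintro _ ⟨s, -, rfl⟩
    change ιU x * phi b (e k s) = phi b (rho b x (e k s))
    exact intertwine_of_basis b (fun i => intertwine_basis b _ s rfl i) x
  exact this

/-- the strict degree filtration of the symmetric module -/
noncomputable def Slt (k : Type u) [CommRing k] (ι : Type w) (m : ℕ) : Submodule k (S k ι) :=
  Vlt k (Multiset.card : Multiset ι → ℕ) m

theorem Slt_succ (m : ℕ) : Slt k ι (m + 1) = Sle k ι m := by
  unfold Slt Vlt Sle
  congr 1
  ext s
  exact Nat.lt_succ_iff

theorem Slt_zero : Slt k ι 0 = ⊥ := Vlt_zero _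

theorem Slt_mono {m n : ℕ} (h : m ≤ n) : Slt k ι m ≤ Slt k ι n := Vlt_mono _ h

theorem e_mem_Slt {s : Multiset ι} {m : ℕ} (h : card s < m) : e k s ∈ Slt k ι m :=
  single_mem_Vlt _ h 1

theorem rho_mem_Slt (x : L) {m : ℕ} {v : S k ι} (hv : v ∈ Slt k ι m) :
    rho b x v ∈ Slt k ι (m + 1) := by
  rcases m with _ | m
  · rw [Slt_zero, Submodule.mem_bot] at hv
    rw [hv, _root_.map_zero]
    exact Submodule.zero_mem _
  · rw [Slt_succ] at hv ⊢
    exact rho_mem b x hv

/-- the strict degree filtration of the enveloping algebra -/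
noncomputable def Flt (m : ℕ) : Submodule k U := (Slt k ι m).map (phi b)

theorem Flt_mono {m n : ℕ} (h : m ≤ n) : Flt b m ≤ Flt b n :=
  Submodule.map_mono (Slt_mono h)

theorem M_mem_Flt {s : Multiset ι} {m : ℕ} (h : card s < m) : M b s ∈ Flt b m :=
  ⟨e k s, e_mem_Slt h, phi_e b s⟩

theorem one_mem_Flt : (1 : U) ∈ Flt b 1 := by
  rw [← M_zero b]
  exact M_mem_Flt b (by simp)

theorem ι_mul_mem_Flt (x : L) {m : ℕ} {u : U} (hu : u ∈ Flt b m) : ιU x * u ∈ Flt b (m + 1) := by
  obtain ⟨v, hv, rfl⟩ := hu
  exact ⟨rho b x v, rho_mem_Slt b x hv, (mul_phi b x v).symm⟩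

theorem ι_mem_Flt (x : L) : ιU x ∈ Flt b 2 := by
  have := ι_mul_mem_Flt b x (one_mem_Flt b)
  rwa [mul_one] at this

/-- the product of the basis vectors along a list of indices -/
noncomputable def P (l : List ι) : U := (l.map fun i => ιU (b i)).prod

theorem P_nil : P b ([] : List ι) = 1 := by
  simp [P]

theorem P_cons (i : ι) (l : List ι) : P b (i :: l) = ιU (b i) * P b l := by
  simp [P]

theorem P_append (l l' : List ι) : P b (l ++ l') = P b l * P b l' := by
  simp [P]

theorem M_eq_P (s : Multiset ι) : M b s = P b (s.sort (· ≤ ·)) := rfl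

theorem P_mul_mem_Flt (l : List ι) {m : ℕ} {u : U} (hu : u ∈ Flt b m) :
    P b l * u ∈ Flt b (l.length + m) := by
  induction l with
  | nil =>
    rw [P_nil, one_mul, List.length_nil, zero_add]
    exact hu
  | cons i l ih =>
    rw [P_cons, mul_assoc, List.length_cons]
    have := ι_mul_mem_Flt b (b i) ih
    rwa [show l.length + 1 + m = l.length + m + 1 by omega]

/-- multiplicativity of the filtration -/
theorem mul_mem_Flt {m n : ℕ} {a c : U} (ha : a ∈ Flt b m) (hc : c ∈ Flt b (n + 1)) :
    a * c ∈ Flt b (m + n) := by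
  obtain ⟨w, hw, rfl⟩ := ha
  unfold Slt Vlt at hw
  rw [Finsupp.supported_eq_span_single] at hw
  have hle : Submodule.span k ((fun s => Finsupp.single s (1 : k)) '' {s : Multiset ι | card s < m}) ≤
      (Flt b (m + n)).comap ((LinearMap.mulRight k c) ∘ₗ phi b) := by
    rw [Submodule.span_le]
    rintro _ ⟨s, hs, rfl⟩
    rw [SetLike.mem_coe, Submodule.mem_comap, LinearMap.comp_apply, LinearMap.mulRight_apply]
    change phi b (e k s) * c ∈ _
    rw [phi_e, M_eq_P]
    have h1 := P_mul_mem_Flt b (s.sort (· ≤ ·)) hc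
    rw [Multiset.length_sort] at h1
    have hs' : card s < m := hs
    exact Flt_mono b (by omega) h1
  have := hle hw
  rwa [Submodule.mem_comap, LinearMap.comp_apply, LinearMap.mulRight_apply] at this

/-- `u` has leading monomial `M s` -/
def Lead (u : U) (s : Multiset ι) : Prop := u - M b s ∈ Flt b (card s)

theorem lead_M (s : Multiset ι) : Lead b (M b s) s := by
  unfold Lead
  rw [sub_self]
  exact Submodule.zero_mem _

theorem lead_one : Lead b (1 : U) (0 : Multiset ι) := by
  have := lead_M b (0 : Multiset ι)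
  rwa [M_zero] at this

theorem Lead.mem_Flt {u : U} {s : Multiset ι} (h : Lead b u s) : u ∈ Flt b (card s + 1) := by
  have h1 := Flt_mono b (Nat.le_succ _) h
  have h2 : M b s ∈ Flt b (card s + 1) := M_mem_Flt b (Nat.lt_succ_self _)
  have := Submodule.add_mem _ h1 h2
  rwa [sub_add_cancel] at this

theorem Lead.sub_mem {u w : U} {s : Multiset ι} (h : Lead b u s) (hw : w ∈ Flt b (card s)) :
    Lead b (u - w) s := by
  unfold Lead at h ⊢
  have := Submodule.sub_mem _ h hw
  rwa [sub_sub, add_comm, ← sub_sub] at this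

theorem Lead.ι_mul {u : U} {s : Multiset ι} (h : Lead b u s) (i : ι) :
    Lead b (ιU (b i) * u) (i ::ₘ s) := by
  unfold Lead at h ⊢
  rw [card_cons]
  have h1 := ι_mul_mem_Flt b (b i) h
  have h2 : ιU (b i) * M b s - M b (i ::ₘ s) ∈ Flt b (card s + 1) := by
    rw [← phi_e, ← phi_e, mul_phi, ← _root_.map_sub, rho_basis]
    refine ⟨_, ?_, rfl⟩
    rw [Slt_succ]
    exact rhoB_e_sub_mem b i s
  have := Submodule.add_mem _ h1 h2
  rw [mul_sub] at this
  rwa [sub_add_sub_cancel] at this

theorem Lead.P_mul {u : U} {s : Multiset ι} (h : Lead b u s) (l : List ι) :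
    Lead b (P b l * u) ((l : Multiset ι) + s) := by
  induction l with
  | nil =>
    rw [P_nil, one_mul]
    simpa using h
  | cons i l ih =>
    rw [P_cons, mul_assoc]
    have := Lead.ι_mul b ih i
    rwa [← Multiset.cons_add, Multiset.cons_coe] at this

theorem Lead.mul {u v : U} {s t : Multiset ι} (hu : Lead b u s) (hv : Lead b v t) :
    Lead b (u * v) (s + t) := by
  have h1 : (u - M b s) * v ∈ Flt b (card s + card t) := mul_mem_Flt b hu (Lead.mem_Flt b hv)
  have h2 := Lead.P_mul b hv (s.sort (· ≤ ·))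
  rw [Multiset.sort_eq, ← M_eq_P] at h2
  unfold Lead at h2 ⊢
  rw [card_add] at h2 ⊢
  have := Submodule.add_mem _ h1 h2
  rwa [sub_mul, sub_add_sub_cancel] at this

theorem Lead.pow {u : U} {s : Multiset ι} (h : Lead b u s) (n : ℕ) : Lead b (u ^ n) (n • s) := by
  induction n with
  | zero =>
    rw [pow_zero, zero_smul]
    exact lead_one b
  | succ n ih =>
    rw [pow_succ, succ_nsmul]
    exact Lead.mul b ih h

theorem lead_P (l : List ι) : Lead b (P b l) (l : Multiset ι) := by
  have := Lead.P_mul b (lead_one b) l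
  rwa [mul_one, add_zero] at this

end Groth.Agent.H83.RPBW
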