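import Groth.Agent.H83.RPBW.PrimH
import Groth.Agent.H83.RPBW.DualDer

/-! A finite-dimensional restricted Lie algebra is the Lie algebra of left-invariant
derivations of the dual of its restricted enveloping algebra, a finite commutative Hopf
algebra of height at most one. -/

set_option autoImplicit false
set_option linter.unusedSectionVars false
universe u v w

namespace Groth.Agent.H83.RPBW

open TensorProduct Groth.Agent.H83.PBWRing Groth.Agent.H83.DualDer

attribute [local instance] LieRing.ofAssociativeRing

section Main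

variable (k : Type u) [Field k] (p : ℕ) [hp : Fact p.Prime] [CharP k p]
  {L : Type v} [LieRing L] [LieAlgebra k L] {ι : Type w} [LinearOrder ι] [Fintype ι]
  (b : Module.Basis ι k L) (φ : PLie.PMap k p L)

local notation "U" => UniversalEnvelopingAlgebra k L
local notation "ιU" => UniversalEnvelopingAlgebra.ι k
local notation "H" => Ures k p b φ
local notation "DH" => CartDual.D k (Ures k p b φ)

instance instFiniteUres : Module.Finite k H := finite_Ures k p b φ

theorem adjoin_range_ιres : Algebra.adjoin k (Set.range (ιres k p b φ)) = ⊤ := by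
  have h1 : Algebra.adjoin k (Set.range (ιU : L → U)) = ⊤ := PBWRing.adjoin_range_ι
  have h2 : (Algebra.adjoin k (Set.range (ιU : L → U))).map (Ideal.Quotient.mkₐ k (JR k p b φ)) =
      Algebra.adjoin k (Set.range (ιres k p b φ)) := by
    rw [AlgHom.map_adjoin, ← Set.range_comp]
    rfl
  rw [← h2, h1, Algebra.map_top, AlgHom.range_eq_top]
  exact Ideal.Quotient.mkₐ_surjective k _

/-- the map from the Lie algebra to the derivations of the dual -/
noncomputable def eDer : L →ₗ[k] Derivation k DH DH where
  toFun x := RtDer (ιres k p b φ x) (comul_ιres k p b φ x)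
  map_add' x y := by
    apply Derivation.ext
    intro f
    show Rt (ιres k p b φ (x + y)) f = Rt (ιres k p b φ x) f + Rt (ιres k p b φ y) f
    rw [map_add, Rt_add]
    rfl
  map_smul' c x := by
    apply Derivation.ext
    intro f
    show Rt (ιres k p b φ (c • x)) f = c • Rt (ιres k p b φ x) f
    rw [map_smul, Rt_smul]
    rfl

theorem eDer_toLinearMap (x : L) : (eDer k p b φ x).toLinearMap = Rt (ιres k p b φ x) := rfl

theorem eDer_apply (x : L) (f : DH) : eDer k p b φ x f = Rt (ιres k p b φ x) f := rfl

theorem eDer_injective : Function.Injective (eDer k p b φ) := by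
  intro x y hxy
  apply ιres_injective k p b φ
  apply Rt_injective (k := k)
  rw [← eDer_toLinearMap, ← eDer_toLinearMap, hxy]

theorem eDer_lie (x y : L) : eDer k p b φ ⁅x, y⁆ = ⁅eDer k p b φ x, eDer k p b φ y⁆ := by
  apply Derivation.ext
  intro f
  rw [Derivation.commutator_apply, eDer_apply, eDer_apply, eDer_apply, eDer_apply, eDer_apply,
    ιres_lie, Rt_sub, Rt_mul, Rt_mul]
  rfl

theorem eDer_pmap (x : L) :
    (eDer k p b φ (φ x)).toLinearMap = (eDer k p b φ x).toLinearMap ^ p := by
  rw [eDer_toLinearMap, eDer_toLinearMap, ιres_pmap, Rt_pow]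

theorem range_eDer : Set.range (eDer k p b φ) =
    {D : Derivation k DH DH | CoalgebraStruct.comul (R := k) (A := DH) ∘ₗ D.toLinearMap =
      LinearMap.lTensor DH D.toLinearMap ∘ₗ CoalgebraStruct.comul (R := k) (A := DH)} := by
  ext D
  constructor
  · rintro ⟨x, rfl⟩
    exact comul_Rt (k := k) (ιres k p b φ x)
  · intro hD
    obtain ⟨h, hh, hDh⟩ := exists_prim_of_leftInv D hD
    obtain ⟨x, rfl⟩ := exists_ιres_eq_of_prim k p b φ h hh
    refine ⟨x, ?_⟩
    apply Derivation.ext
    intro f
    rw [eDer_apply, ← hDh]
    rfl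

theorem height_le_one (f : DH) (hf : Bialgebra.counitAlgHom k DH f = 0) : f ^ p = 0 := by
  apply pow_p_eq_zero p (Set.range (ιres k p b φ))
  · rintro _ ⟨x, rfl⟩
    exact comul_ιres k p b φ x
  · exact adjoin_range_ιres k p b φ
  · exact hf

end Main

end Groth.Agent.H83.RPBW
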