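import Groth.Agent.H83.RPBW.Restricted

/-! A finite-dimensional restricted Lie algebra over a field is a restricted subalgebra of a
matrix algebra. -/

set_option autoImplicit false
universe u v

namespace Groth.Agent.H83.RPBW

theorem exists_matrix (k : Type u) [Field k] (p : ℕ) [Fact p.Prime] [CharP k p]
    (L : Type v) [LieRing L] [LieAlgebra k L] [Module.Finite k L] (φ : PLie.PMap k p L) :
    ∃ (n : ℕ) (e : L →ₗ[k] Matrix (Fin n) (Fin n) k), PLie.IsPSubOfAssoc φ e := by
  obtain ⟨b, hb⟩ : ∃ b : Module.Basis (Fin (Module.finrank k L)) k L, b = Module.finBasis k L :=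
    ⟨_, rfl⟩
  have hfin : Module.Finite k (Ures k p b φ) := finite_Ures k p b φ
  obtain ⟨B, hB⟩ : ∃ B : Module.Basis (Fin (Module.finrank k (Ures k p b φ))) k (Ures k p b φ),
      B = Module.finBasis k (Ures k p b φ) := ⟨_, rfl⟩
  refine ⟨Module.finrank k (Ures k p b φ),
    (Algebra.leftMulMatrix B).toLinearMap ∘ₗ ιres k p b φ, ?_, ?_, ?_⟩
  · exact (Algebra.leftMulMatrix_injective B).comp (ιres_injective k p b φ)
  · intro x x'
    simp only [LinearMap.comp_apply, AlgHom.toLinearMap_apply]
    rw [ιres_lie, map_sub, map_mul, map_mul]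
  · intro x
    simp only [LinearMap.comp_apply, AlgHom.toLinearMap_apply]
    rw [ιres_pmap, map_pow]

end Groth.Agent.H83.RPBW
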