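import Groth.Agent.H83.RPBW.BasisH

/-! The primitive elements of the restricted enveloping algebra are the elements of the
Lie algebra. -/

set_option autoImplicit false
set_option linter.unusedSectionVars false
universe u v w

namespace Groth.Agent.H83.RPBW

open TensorProduct Groth.Agent.H83.PBWRing Multiset

attribute [local instance] LieRing.ofAssociativeRing

section Count

variable {ι : Type w} [DecidableEq ι]

theorem count_zero_powerset (s : Multiset ι) : count (0 : Multiset ι) (powerset s) = 1 := by
  induction s using Multiset.induction_on with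
  | empty => rw [powerset_zero, count_singleton_self]
  | cons a s ih =>
    rw [powerset_cons, count_add, ih, Nat.add_eq_left, count_eq_zero, Multiset.mem_map]
    rintro ⟨t, _, ht⟩
    exact Multiset.cons_ne_zero ht

theorem count_singleton_powerset (i : ι) (s : Multiset ι) :
    count ({i} : Multiset ι) (powerset s) = count i s := by
  induction s using Multiset.induction_on with
  | empty =>
    rw [powerset_zero, count_zero, count_eq_zero, Multiset.mem_singleton]
    exact Multiset.singleton_ne_zero i
  | cons a s ih =>
    rw [powerset_cons, count_add, ih, count_cons]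
    congr 1
    by_cases h : i = a
    · subst h
      rw [if_pos rfl]
      have : ({i} : Multiset ι) = i ::ₘ 0 := rfl
      rw [this, Multiset.count_map_eq_count' (cons i) _ (fun _ _ h => (Multiset.cons_inj_right i).1 h),
        count_zero_powerset]
    · rw [if_neg h, count_eq_zero, Multiset.mem_map]
      rintro ⟨t, _, ht⟩
      have h1 : a ∈ ({i} : Multiset ι) := by
        rw [← ht]
        exact Multiset.mem_cons_self a t
      rw [Multiset.mem_singleton] at h1
      exact h h1.symm

end Count


section Prim

variable (k : Type u) [Field k] (p : ℕ) [hp : Fact p.Prime] [CharP k p]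
  {L : Type v} [LieRing L] [LieAlgebra k L] {ι : Type w} [LinearOrder ι] [Fintype ι]
  (b : Module.Basis ι k L) (φ : PLie.PMap k p L)

local notation "H" => Ures k p b φ

theorem isTrunc_of_le {s t : Multiset ι} (hs : IsTrunc p s) (h : t ≤ s) : IsTrunc p t :=
  fun i => lt_of_le_of_lt (Multiset.le_iff_count.1 h i) (hs i)

theorem coord_Mbar (r : Tr p ι) (u : Multiset ι) (hu : IsTrunc p u) :
    (basisH k p b φ).coord r (Mbar k p b φ u) = if u = r.1 then 1 else 0 := by
  have h1 : Mbar k p b φ u = basisH k p b φ ⟨u, hu⟩ := (basisH_apply k p b φ ⟨u, hu⟩).symm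
  rw [h1, Module.Basis.coord_apply, Module.Basis.repr_self, Finsupp.single_apply]
  by_cases h : u = r.1
  · rw [if_pos h, if_pos (Subtype.ext h)]
  · rw [if_neg h, if_neg (fun h' => h (congrArg Subtype.val h'))]

theorem pair_comul_Mbar (r₁ r₂ : Tr p ι) (s : Multiset ι) (hs : IsTrunc p s) :
    LinearMap.mul' k k (TensorProduct.map ((basisH k p b φ).coord r₁) ((basisH k p b φ).coord r₂)
      (Coalgebra.comul (R := k) (Mbar k p b φ s))) =
    if s = r₁.1 + r₂.1 then (count r₁.1 (powerset s) : k) else 0 := by
  rw [comul_Mbar k p b φ (card s) s rfl, map_multiset_sum, map_multiset_sum, Multiset.map_map,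
    Multiset.map_map]
  have h1 : ∀ t ∈ powerset s, ((⇑(LinearMap.mul' k k) ∘
      ⇑(TensorProduct.map ((basisH k p b φ).coord r₁) ((basisH k p b φ).coord r₂))) ∘
      fun t => Mbar k p b φ t ⊗ₜ[k] Mbar k p b φ (s - t)) t =
      (if t = r₁.1 then (1 : k) else 0) * (if s - t = r₂.1 then (1 : k) else 0) := by
    intro t ht
    rw [mem_powerset] at ht
    rw [Function.comp_apply, Function.comp_apply, TensorProduct.map_tmul, LinearMap.mul'_apply,
      coord_Mbar k p b φ r₁ t (isTrunc_of_le p hs ht),
      coord_Mbar k p b φ r₂ (s - t) (isTrunc_of_le p hs (Multiset.sub_le_self s t))]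
  rw [Multiset.map_congr rfl h1, Multiset.sum_map_eq_nsmul_single r₁.1]
  · rw [if_pos rfl, one_mul]
    by_cases h : s = r₁.1 + r₂.1
    · rw [if_pos h, if_pos (by rw [h, add_tsub_cancel_left]), nsmul_one]
    · rw [if_neg h]
      by_cases hle : r₁.1 ≤ s
      · rw [if_neg, nsmul_zero]
        intro h2
        apply h
        rw [← h2, add_tsub_cancel_of_le hle]
      · have : count r₁.1 (powerset s) = 0 := by
          rw [count_eq_zero, mem_powerset]
          exact hle
        rw [this, zero_nsmul]
  · intro t ht _
    rw [if_neg ht, zero_mul]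

theorem pair_comul_eq (r₁ r₂ r₃ : Tr p ι) (h3 : r₃.1 = r₁.1 + r₂.1) (h : H) :
    LinearMap.mul' k k (TensorProduct.map ((basisH k p b φ).coord r₁) ((basisH k p b φ).coord r₂)
      (Coalgebra.comul (R := k) h)) =
    (count r₁.1 (powerset r₃.1) : k) * (basisH k p b φ).coord r₃ h := by
  have key : LinearMap.mul' k k ∘ₗ
      TensorProduct.map ((basisH k p b φ).coord r₁) ((basisH k p b φ).coord r₂) ∘ₗ
      (Coalgebra.comul (R := k) (A := H)) =
      (count r₁.1 (powerset r₃.1) : k) • (basisH k p b φ).coord r₃ := by
    apply (basisH k p b φ).ext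
    intro r
    rw [LinearMap.comp_apply, LinearMap.comp_apply, basisH_apply,
      pair_comul_Mbar k p b φ r₁ r₂ r.1 r.2, LinearMap.smul_apply, smul_eq_mul,
      coord_Mbar k p b φ r₃ r.1 r.2]
    by_cases hr : r.1 = r₃.1
    · rw [if_pos hr, if_pos (by rw [hr, h3]), hr, mul_one]
    · rw [if_neg hr, if_neg (by rw [← h3]; exact hr), mul_zero]
  have := LinearMap.congr_fun key h
  rw [LinearMap.comp_apply, LinearMap.comp_apply, LinearMap.smul_apply, smul_eq_mul] at this
  exact this

theorem isTrunc_zero : IsTrunc p (0 : Multiset ι) := fun i => by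
  rw [count_zero]
  exact hp.out.pos

theorem isTrunc_singleton (i : ι) : IsTrunc p ({i} : Multiset ι) := fun j => by
  have : count j ({i} : Multiset ι) ≤ 1 := by
    rw [count_singleton]
    split_ifs <;> omega
  exact lt_of_le_of_lt this hp.out.one_lt

theorem coord_one (r : Tr p ι) :
    (basisH k p b φ).coord r (1 : H) = if (0 : Multiset ι) = r.1 then 1 else 0 := by
  rw [← Mbar_zero k p b φ]
  exact coord_Mbar k p b φ r 0 (isTrunc_zero p)

/-- the coordinates of a primitive element vanish outside the monomials of degree one -/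
theorem coord_prim_eq_zero (h : H)
    (hh : Coalgebra.comul (R := k) h = h ⊗ₜ[k] (1 : H) + (1 : H) ⊗ₜ[k] h) (r : Tr p ι)
    (hr : card r.1 ≠ 1) : (basisH k p b φ).coord r h = 0 := by
  by_cases h0 : r.1 = 0
  · -- degree zero
    have h3 : r.1 = r.1 + r.1 := by rw [h0, add_zero]
    have h1 := pair_comul_eq k p b φ r r r h3 h
    rw [hh, _root_.map_add, _root_.map_add, TensorProduct.map_tmul, TensorProduct.map_tmul,
      LinearMap.mul'_apply, LinearMap.mul'_apply, coord_one, if_pos h0.symm, mul_one, one_mul]
      at h1
    have h2 : count r.1 (powerset r.1) = 1 := by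
      rw [h0]
      exact count_zero_powerset 0
    rw [h2, Nat.cast_one, one_mul] at h1
    exact add_eq_left.1 h1
  · -- degree at least two
    obtain ⟨i, hi⟩ := Multiset.exists_mem_of_ne_zero h0
    have hcons : r.1 = {i} + r.1.erase i := by
      rw [Multiset.singleton_add, Multiset.cons_erase hi]
    have he0 : r.1.erase i ≠ 0 := by
      intro he
      apply hr
      rw [hcons, he, add_zero, card_singleton]
    have h1 := pair_comul_eq k p b φ ⟨{i}, isTrunc_singleton p i⟩
      ⟨r.1.erase i, isTrunc_of_le p r.2 (Multiset.erase_le i r.1)⟩ r hcons h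
    rw [hh, _root_.map_add, _root_.map_add, TensorProduct.map_tmul, TensorProduct.map_tmul,
      LinearMap.mul'_apply, LinearMap.mul'_apply, coord_one, coord_one,
      if_neg (fun h' => he0 h'.symm), if_neg (fun h' => Multiset.singleton_ne_zero i h'.symm),
      mul_zero, zero_mul, add_zero] at h1
    have h2 : (count ({i} : Multiset ι) (powerset r.1) : k) ≠ 0 := by
      rw [count_singleton_powerset]
      intro h4
      have h5 := (CharP.cast_eq_zero_iff k p _).1 h4
      have h6 : 0 < count i r.1 := Multiset.count_pos.2 hi
      exact absurd (Nat.le_of_dvd h6 h5) (not_le.2 (r.2 i))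
    rcases mul_eq_zero.1 h1.symm with h4 | h4
    · exact absurd h4 h2
    · exact h4

/-- the primitive elements of the restricted enveloping algebra come from the Lie algebra -/
theorem exists_ιres_eq_of_prim (h : H)
    (hh : Coalgebra.comul (R := k) h = h ⊗ₜ[k] (1 : H) + (1 : H) ⊗ₜ[k] h) :
    ∃ x : L, ιres k p b φ x = h := by
  have hmem : h ∈ LinearMap.range (ιres k p b φ) := by
    rw [← (basisH k p b φ).linearCombination_repr h, Finsupp.linearCombination_apply,
      Finsupp.sum]
    apply Submodule.sum_mem
    intro r _
    by_cases hr : card r.1 = 1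
    · obtain ⟨i, hi⟩ := Multiset.card_eq_one.1 hr
      apply Submodule.smul_mem
      rw [basisH_apply, hi, Mbar_singleton]
      exact ⟨b i, rfl⟩
    · have := coord_prim_eq_zero k p b φ h hh r hr
      rw [Module.Basis.coord_apply] at this
      rw [this, zero_smul]
      exact Submodule.zero_mem _
  exact hmem

end Prim

end Groth.Agent.H83.RPBW
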