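import Groth.Agent.H83.RPBW.Basis

/-! The ideal generated by the central elements `b_i ^ p - y_i`: it meets `L` trivially and has
finite-dimensional quotient. -/

set_option autoImplicit false
set_option linter.unusedSectionVars false
universe u v w

namespace Groth.Agent.H83.RPBW

open Groth.Agent.H83.PBWRing Multiset

attribute [local instance] LieRing.ofAssociativeRing

section Main

variable (k : Type u) [CommRing k] (p : ℕ) [hp : Fact p.Prime] [CharP k p]
  {L : Type v} [LieRing L] [LieAlgebra k L] {ι : Type w} [LinearOrder ι] [Fintype ι]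
  (b : Module.Basis ι k L) (y : ι → L)
  (hy : ∀ i : ι, LieAlgebra.ad k L (b i) ^ p = LieAlgebra.ad k L (y i))

local notation "U" => UniversalEnvelopingAlgebra k L
local notation "ιU" => UniversalEnvelopingAlgebra.ι k

/-- truncated multisets: all multiplicities below `p` -/
def IsTrunc (p : ℕ) (s : Multiset ι) : Prop := ∀ i, count i s < p

include hp in
theorem N_of_trunc (s : Multiset ι) (hs : IsTrunc p s) : N k p b y hy s = M b s := by
  unfold N
  have h1 : (fun i => count i s / p) = (0 : ι → ℕ) := by
    funext i
    exact Nat.div_eq_of_lt (hs i)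
  have h2 : (fun i => count i s % p) = fun i => count i s := by
    funext i
    exact Nat.mod_eq_of_lt (hs i)
  rw [h1, h2, Zq_zero, one_mul, rep_count]

include hp in
theorem zeta_mul_N (i : ι) (s : Multiset ι) :
    zetaGen k p b y i * N k p b y hy s = N k p b y hy (s + Multiset.replicate p i) := by
  have hp0 : 0 < p := hp.out.pos
  unfold N
  rw [← mul_assoc, zeta_mul_Zq]
  have h1 : ((fun j => count j s / p) + Pi.single i 1 : ι → ℕ) =
      fun j => count j (s + Multiset.replicate p i) / p := by
    funext j
    rw [Pi.add_apply, Pi.single_apply, count_add, count_replicate]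
    by_cases h : j = i
    · subst h
      rw [if_pos rfl, if_pos rfl, Nat.add_div_right _ hp0]
    · rw [if_neg h, if_neg (Ne.symm h), add_zero, add_zero]
  have h2 : (fun j => count j s % p) = fun j => count j (s + Multiset.replicate p i) % p := by
    funext j
    rw [count_add, count_replicate]
    by_cases h : j = i
    · subst h
      rw [if_pos rfl, Nat.add_mod_right]
    · rw [if_neg (Ne.symm h), add_zero]
  rw [h1, h2]

/-- the span of the new basis vectors indexed by the non-truncated multisets -/
noncomputable def K : Submodule k U :=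
  (Finsupp.supported k k {s : Multiset ι | ¬ IsTrunc p s}).map (Psi k p b y hy)

/-- the span of the new basis vectors indexed by the truncated multisets -/
noncomputable def T : Submodule k U :=
  (Finsupp.supported k k {s : Multiset ι | IsTrunc p s}).map (Psi k p b y hy)

theorem N_mem_K (s : Multiset ι) (hs : ¬ IsTrunc p s) : N k p b y hy s ∈ K k p b y hy :=
  ⟨e k s, Finsupp.single_mem_supported k 1 hs, Psi_e k p b y hy s⟩

include hp in
theorem zeta_mul_mem_K (i : ι) (u : U) : zetaGen k p b y i * u ∈ K k p b y hy := by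
  obtain ⟨w, rfl⟩ := (Psi_bijective k p b y hy).2 u
  have hw : w ∈ (⊤ : Submodule k (S k ι)) := trivial
  rw [← Finsupp.supported_univ, Finsupp.supported_eq_span_single] at hw
  have hle : Submodule.span k ((fun s => Finsupp.single s (1 : k)) '' (Set.univ : Set (Multiset ι))) ≤
      (K k p b y hy).comap ((LinearMap.mulLeft k (zetaGen k p b y i)) ∘ₗ Psi k p b y hy) := by
    rw [Submodule.span_le]
    rintro _ ⟨s, -, rfl⟩
    rw [SetLike.mem_coe, Submodule.mem_comap, LinearMap.comp_apply, LinearMap.mulLeft_apply]
    change zetaGen k p b y i * Psi k p b y hy (e k s) ∈ _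
    rw [Psi_e, zeta_mul_N]
    apply N_mem_K
    intro h
    have := h i
    rw [count_add, count_replicate, if_pos rfl] at this
    omega
  have := hle hw
  rwa [Submodule.mem_comap, LinearMap.comp_apply, LinearMap.mulLeft_apply] at this

include hp in
/-- elements of `K` are combinations of the central elements -/
theorem exists_of_mem_K (a : U) (ha : a ∈ K k p b y hy) :
    ∃ f : ι → U, a = ∑ i, zetaGen k p b y i * f i := by
  classical
  obtain ⟨w, hw, rfl⟩ := ha
  rw [Finsupp.supported_eq_span_single] at hw
  induction hw using Submodule.span_induction with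
  | mem v hv =>
    obtain ⟨s, hs, rfl⟩ := hv
    change ∃ f : ι → U, Psi k p b y hy (e k s) = _
    rw [Psi_e]
    have hs' : ¬ IsTrunc p s := hs
    unfold IsTrunc at hs'
    push Not at hs'
    obtain ⟨i, hi⟩ := hs'
    have h1 : s = (s - Multiset.replicate p i) + Multiset.replicate p i := by
      rw [Multiset.sub_add_cancel]
      rw [Multiset.le_iff_count]
      intro j
      rw [count_replicate]
      by_cases h : i = j
      · subst h
        rw [if_pos rfl]
        exact hi
      · rw [if_neg h]
        exact Nat.zero_le _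
    refine ⟨Pi.single i (N k p b y hy (s - Multiset.replicate p i)), ?_⟩
    rw [Finset.sum_eq_single i]
    · rw [Pi.single_eq_same, zeta_mul_N, ← h1]
    · intro j _ hj
      rw [Pi.single_eq_of_ne hj, mul_zero]
    · intro h
      exact absurd (Finset.mem_univ i) h
  | zero => exact ⟨0, by simp⟩
  | add v v' _ _ h1 h2 =>
    obtain ⟨f, hf⟩ := h1
    obtain ⟨g, hg⟩ := h2
    refine ⟨f + g, ?_⟩
    rw [_root_.map_add, hf, hg, ← Finset.sum_add_distrib]
    apply Finset.sum_congr rfl
    intro i _
    rw [Pi.add_apply, mul_add]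
  | smul c v _ h1 =>
    obtain ⟨f, hf⟩ := h1
    refine ⟨c • f, ?_⟩
    rw [_root_.map_smul, hf, Finset.smul_sum]
    apply Finset.sum_congr rfl
    intro i _
    rw [Pi.smul_apply, mul_smul_comm]

/-- the ideal generated by the central elements -/
noncomputable def J : Ideal U := Ideal.span (Set.range (zetaGen k p b y))

include hy in
theorem zeta_comm_all (i : ι) (u : U) : u * zetaGen k p b y i = zetaGen k p b y i * u :=
  Subalgebra.mem_center_iff.1 (zetaGen_mem_center k p b y hy i) u

include hy in
theorem sum_mem_J (f : ι → U) : ∑ i, zetaGen k p b y i * f i ∈ J k p b y := by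
  apply Ideal.sum_mem
  intro i _
  rw [← zeta_comm_all k p b y hy]
  exact Ideal.mul_mem_left _ _ (Ideal.subset_span ⟨i, rfl⟩)

include hy in
theorem exists_of_mem_J (a : U) (ha : a ∈ J k p b y) :
    ∃ f : ι → U, a = ∑ i, zetaGen k p b y i * f i := by
  classical
  unfold J at ha
  induction ha using Submodule.span_induction with
  | mem v hv =>
    obtain ⟨i, rfl⟩ := hv
    refine ⟨Pi.single i 1, ?_⟩
    rw [Finset.sum_eq_single i]
    · rw [Pi.single_eq_same, mul_one]
    · intro j _ hj
      rw [Pi.single_eq_of_ne hj, mul_zero]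
    · intro h
      exact absurd (Finset.mem_univ i) h
  | zero => exact ⟨0, by simp⟩
  | add v v' _ _ h1 h2 =>
    obtain ⟨f, hf⟩ := h1
    obtain ⟨g, hg⟩ := h2
    refine ⟨f + g, ?_⟩
    rw [hf, hg, ← Finset.sum_add_distrib]
    apply Finset.sum_congr rfl
    intro i _
    rw [Pi.add_apply, mul_add]
  | smul c v _ h1 =>
    obtain ⟨f, hf⟩ := h1
    refine ⟨fun i => c * f i, ?_⟩
    rw [hf, smul_eq_mul, Finset.mul_sum]
    apply Finset.sum_congr rfl
    intro i _
    rw [← mul_assoc, zeta_comm_all k p b y hy, mul_assoc]

include hy in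
theorem J_isTwoSided : (J k p b y).IsTwoSided := by
  refine ⟨fun {a} u ha => ?_⟩
  obtain ⟨f, rfl⟩ := exists_of_mem_J k p b y hy a ha
  rw [Finset.sum_mul]
  have : ∑ i, zetaGen k p b y i * f i * u = ∑ i, zetaGen k p b y i * (fun i => f i * u) i := by
    apply Finset.sum_congr rfl
    intro i _
    rw [mul_assoc]
  rw [this]
  exact sum_mem_J k p b y hy _

include hy hp in
theorem mem_J_iff (a : U) : a ∈ J k p b y ↔ a ∈ K k p b y hy := by
  constructor
  · intro ha
    obtain ⟨f, rfl⟩ := exists_of_mem_J k p b y hy a ha
    exact Submodule.sum_mem _ fun i _ => zeta_mul_mem_K k p b y hy i (f i)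
  · intro ha
    obtain ⟨f, rfl⟩ := exists_of_mem_K k p b y hy a ha
    exact sum_mem_J k p b y hy f

include hy hp in
/-- `L` meets the ideal trivially -/
theorem eq_zero_of_ι_mem_J (x : L) (hx : ιU x ∈ J k p b y) : x = 0 := by
  classical
  rw [mem_J_iff k p b y hy] at hx
  obtain ⟨w, hw, hw2⟩ := hx
  -- `ιU x` as a combination of truncated basis vectors
  have hp2 : 2 ≤ p := hp.out.two_le
  have htr : ∀ i : ι, IsTrunc p ({i} : Multiset ι) := by
    intro i j
    rw [count_singleton]
    split_ifs <;> omega
  have hM : ∀ i : ι, M b ({i} : Multiset ι) = ιU (b i) := by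
    intro i
    have := M_cons b (i := i) (s := 0) (fun j hj => absurd hj (Multiset.notMem_zero j))
    rw [M_zero, mul_one] at this
    exact this
  obtain ⟨w', hw'⟩ : ∃ w' : S k ι, w' = ∑ i, b.repr x i • e k ({i} : Multiset ι) := ⟨_, rfl⟩
  have h1 : Psi k p b y hy w' = ιU x := by
    rw [hw', _root_.map_sum]
    have h2 : ∀ i, Psi k p b y hy (b.repr x i • e k ({i} : Multiset ι)) =
        ιU (b.repr x i • b i) := by
      intro i
      rw [_root_.map_smul, Psi_e, N_of_trunc k p b y hy _ (htr i), hM, _root_.map_smul]
    simp_rw [h2]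
    rw [← _root_.map_sum]
    congr 1
    exact b.sum_repr x
  have h3 : w = w' := (Psi_bijective k p b y hy).1 (hw2.trans h1.symm)
  -- the coefficients vanish
  have h4 : ∀ i, b.repr x i = 0 := by
    intro i
    have h5 : w ({i} : Multiset ι) = 0 := by
      by_contra hne
      have := hw (Finsupp.mem_support_iff.2 hne)
      exact this (htr i)
    rw [h3, hw', Finsupp.finsetSum_apply] at h5
    rw [Finset.sum_eq_single i] at h5
    · simpa [e] using h5
    · intro j _ hj
      have : ({j} : Multiset ι) ≠ {i} := fun h => hj (Multiset.singleton_inj.1 h)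
      simp [e, this]
    · intro h
      exact absurd (Finset.mem_univ i) h
  apply b.repr.injective
  ext i
  rw [h4 i]
  simp

end Main

section Finite

variable (k : Type u) [CommRing k] (p : ℕ) [hp : Fact p.Prime] [CharP k p]
  {L : Type v} [LieRing L] [LieAlgebra k L] {ι : Type w} [LinearOrder ι] [Fintype ι]
  (b : Module.Basis ι k L) (y : ι → L)
  (hy : ∀ i : ι, LieAlgebra.ad k L (b i) ^ p = LieAlgebra.ad k L (y i))

local notation "U" => UniversalEnvelopingAlgebra k L
local notation "ιU" => UniversalEnvelopingAlgebra.ι k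

theorem finite_isTrunc : {s : Multiset ι | IsTrunc p s}.Finite := by
  have h1 : (Set.pi Set.univ fun _ : ι => Set.Iio p).Finite :=
    Set.Finite.pi fun _ => Set.finite_Iio p
  apply (h1.image rep).subset
  intro s hs
  refine ⟨fun i => count i s, ?_, rep_count s⟩
  rw [Set.mem_pi]
  intro i _
  exact hs i

include hy hp in
/-- every element is congruent modulo the ideal to a combination of truncated monomials -/
theorem exists_trunc_sub_mem_J (u : U) :
    ∃ t ∈ Submodule.span k ((fun s => M b s) '' {s : Multiset ι | IsTrunc p s}),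
      u - t ∈ J k p b y := by
  classical
  obtain ⟨w, rfl⟩ := (Psi_bijective k p b y hy).2 u
  have hw : w ∈ (⊤ : Submodule k (S k ι)) := trivial
  rw [← Finsupp.supported_univ, Finsupp.supported_eq_span_single] at hw
  induction hw using Submodule.span_induction with
  | mem v hv =>
    obtain ⟨s, -, rfl⟩ := hv
    change ∃ t ∈ _, Psi k p b y hy (e k s) - t ∈ _
    rw [Psi_e]
    by_cases hs : IsTrunc p s
    · refine ⟨M b s, Submodule.subset_span ⟨s, hs, rfl⟩, ?_⟩
      rw [N_of_trunc k p b y hy s hs, sub_self]
      exact Submodule.zero_mem _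
    · refine ⟨0, Submodule.zero_mem _, ?_⟩
      rw [sub_zero, mem_J_iff k p b y hy]
      exact N_mem_K k p b y hy s hs
  | zero => exact ⟨0, Submodule.zero_mem _, by simp⟩
  | add v v' _ _ h1 h2 =>
    obtain ⟨t, ht, h1⟩ := h1
    obtain ⟨t', ht', h2⟩ := h2
    refine ⟨t + t', Submodule.add_mem _ ht ht', ?_⟩
    rw [_root_.map_add, add_sub_add_comm]
    exact Submodule.add_mem _ h1 h2
  | smul c v _ h1 =>
    obtain ⟨t, ht, h1⟩ := h1
    refine ⟨c • t, Submodule.smul_mem _ c ht, ?_⟩
    rw [_root_.map_smul, ← smul_sub, ← algebraMap_smul U c (Psi k p b y hy v - t)]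
    exact Submodule.smul_mem _ _ h1

end Finite

end Groth.Agent.H83.RPBW
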