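import Groth.Agent.H83.RPBW.Quot

/-! The restricted enveloping algebra of a free restricted Lie algebra of finite rank: it is a
finite module and contains the Lie algebra. -/

set_option autoImplicit false
set_option linter.unusedSectionVars false
universe u v w

namespace Groth.Agent.H83.RPBW

open Groth.Agent.H83.PBWRing Multiset

attribute [local instance] LieRing.ofAssociativeRing

section Main

variable (k : Type u) [CommRing k] (p : ℕ) [hp : Fact p.Prime] [CharP k p]
  {L : Type v} [LieRing L] [LieAlgebra k L] {ι : Type w} [LinearOrder ι] [Fintype ι]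
  (b : Module.Basis ι k L) (φ : PLie.PMap k p L)

local notation "U" => UniversalEnvelopingAlgebra k L
local notation "ιU" => UniversalEnvelopingAlgebra.ι k

theorem hy_of_pmap (i : ι) : LieAlgebra.ad k L (b i) ^ p = LieAlgebra.ad k L (φ (b i)) :=
  (φ.ad_map (b i)).symm

/-- in the enveloping algebra, `x ^ p - x^[p]` is the semilinear combination of the central
elements -/
theorem pow_sub_eq_zeta (x : L) :
    ιU x ^ p - ιU (φ x) = zeta k p b (fun i => φ (b i)) x := by
  have hx : x ∈ Submodule.span k (Set.range b) := by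
    rw [b.span_eq]
    trivial
  induction hx using Submodule.span_induction with
  | mem x hx =>
    obtain ⟨i, rfl⟩ := hx
    rw [zeta_basis]
    rfl
  | zero =>
    rw [pmap_zero, _root_.map_zero, zeta_zero, zero_pow hp.out.ne_zero, sub_zero]
  | add x x' _ _ hx hx' =>
    have h1 := φ.map_add x x'
    change φ (x + x') = φ x + φ x' - PLie.jacobson k p x x' at h1
    rw [_root_.map_add, add_pow_eq_sub_jacobson k p, h1, zeta_add, ← hx, ← hx', _root_.map_sub,
      _root_.map_add, map_jacobson]
    abel
  | smul a x _ hx =>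
    have h1 := φ.map_smul a x
    change φ (a • x) = a ^ p • φ x at h1
    rw [_root_.map_smul, smul_pow, h1, _root_.map_smul, zeta_smul, ← hx, smul_sub]

/-- the ideal of the restricted enveloping algebra -/
noncomputable def JR : Ideal U := J k p b (fun i => φ (b i))

theorem JR_isTwoSided : (JR k p b φ).IsTwoSided :=
  J_isTwoSided k p b _ (hy_of_pmap k p b φ)

theorem zeta_mem_JR (x : L) : zeta k p b (fun i => φ (b i)) x ∈ JR k p b φ := by
  unfold zeta
  rw [Finsupp.sum]
  apply Ideal.sum_mem
  intro i _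
  rw [← algebraMap_smul U]
  exact Submodule.smul_mem _ _ (Ideal.subset_span ⟨i, rfl⟩)

theorem pow_sub_mem_JR (x : L) : ιU x ^ p - ιU (φ x) ∈ JR k p b φ := by
  rw [pow_sub_eq_zeta k p b φ x]
  exact zeta_mem_JR k p b φ x

end Main

section Quot

variable (k : Type u) [CommRing k] (p : ℕ) [hp : Fact p.Prime] [CharP k p]
  {L : Type v} [LieRing L] [LieAlgebra k L] {ι : Type w} [LinearOrder ι] [Fintype ι]
  (b : Module.Basis ι k L) (φ : PLie.PMap k p L)

local notation "U" => UniversalEnvelopingAlgebra k L
local notation "ιU" => UniversalEnvelopingAlgebra.ι k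

instance instTwoSidedJR : (JR k p b φ).IsTwoSided := JR_isTwoSided k p b φ

/-- the restricted enveloping algebra -/
abbrev Ures : Type (max u v) := U ⧸ JR k p b φ

/-- the canonical map from the Lie algebra to its restricted enveloping algebra -/
noncomputable def ιres : L →ₗ[k] Ures k p b φ :=
  (Ideal.Quotient.mkₐ k (JR k p b φ)).toLinearMap ∘ₗ
    (ιU : L →ₗ⁅k⁆ U).toLinearMap

theorem ιres_apply (x : L) : ιres k p b φ x = Ideal.Quotient.mk (JR k p b φ) (ιU x) := rfl

theorem ιres_injective : Function.Injective (ιres k p b φ) := by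
  rw [← LinearMap.ker_eq_bot, eq_bot_iff]
  intro x hx
  rw [LinearMap.mem_ker, ιres_apply, Ideal.Quotient.eq_zero_iff_mem] at hx
  exact eq_zero_of_ι_mem_J k p b _ (hy_of_pmap k p b φ) x hx

theorem ιres_lie (x x' : L) :
    ιres k p b φ ⁅x, x'⁆ = ιres k p b φ x * ιres k p b φ x' - ιres k p b φ x' * ιres k p b φ x := by
  rw [ιres_apply, ιres_apply, ιres_apply, LieHom.map_lie, LieRing.of_associative_ring_bracket,
    _root_.map_sub, _root_.map_mul, _root_.map_mul]

theorem ιres_pmap (x : L) : ιres k p b φ (φ x) = ιres k p b φ x ^ p := by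
  rw [ιres_apply, ιres_apply, ← _root_.map_pow, eq_comm, ← sub_eq_zero, ← _root_.map_sub,
    Ideal.Quotient.eq_zero_iff_mem]
  exact pow_sub_mem_JR k p b φ x

theorem finite_Ures : Module.Finite k (Ures k p b φ) := by
  classical
  obtain ⟨F, hF⟩ : ∃ F : Set (Ures k p b φ), F = (fun s : Multiset ι =>
      Ideal.Quotient.mk (JR k p b φ) (M b s)) '' {s : Multiset ι | IsTrunc p s} := ⟨_, rfl⟩
  have hfin : F.Finite := by
    rw [hF]
    exact (finite_isTrunc p).image _
  refine ⟨(Submodule.fg_def).2 ⟨F, hfin, ?_⟩⟩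
  rw [eq_top_iff]
  intro a _
  obtain ⟨u, rfl⟩ := Ideal.Quotient.mk_surjective a
  obtain ⟨t, ht, hut⟩ := exists_trunc_sub_mem_J k p b _ (hy_of_pmap k p b φ) u
  have h1 : Ideal.Quotient.mk (JR k p b φ) u = Ideal.Quotient.mk (JR k p b φ) t := by
    rw [← sub_eq_zero, ← _root_.map_sub, Ideal.Quotient.eq_zero_iff_mem]
    exact hut
  rw [h1]
  have hle : Submodule.span k ((fun s => M b s) '' {s : Multiset ι | IsTrunc p s}) ≤
      (Submodule.span k F).comap (Ideal.Quotient.mkₐ k (JR k p b φ)).toLinearMap := by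
    rw [Submodule.span_le]
    rintro _ ⟨s, hs, rfl⟩
    rw [SetLike.mem_coe, Submodule.mem_comap]
    apply Submodule.subset_span
    rw [hF]
    exact ⟨s, hs, rfl⟩
  exact hle ht

end Quot

end Groth.Agent.H83.RPBW
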